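import Cfsg.Agent.Lib.OOL.CNTri
import Cfsg.Agent.Lib.PLocal.MaxClass
import Cfsg.Agent.Lib.Lead.Dihedral

set_option autoImplicit false
set_option linter.unusedSectionVars false
set_option linter.style.haveILetI false
set_option linter.unusedVariables false

open Pointwise
open scoped commutatorElement IsMulCommutative
open Subgroup CfsgLib.Solv Cfsg

namespace CfsgLib.OOL

universe u

variable {p : ℕ} [hpf : Fact p.Prime]

/-- **S0112** core. -/
theorem self_centralizing_class : ∀ (n : ℕ) (X : Type u) [Group X] [Finite X], Nat.card X = p ^ n →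
    ∀ A : Subgroup X, Nat.card A = p ^ 2 → centralizer (A : Set X) = A → Group.nilpotencyClass X = n - 1 := by
  classical
  have hpp : p.Prime := hpf.out
  intro n
  induction n with
  | zero =>
    intro X _ _ hX A hA hC
    exfalso
    have h1 : Nat.card A ∣ Nat.card X := Subgroup.card_subgroup_dvd_card A
    rw [hA, hX, pow_zero, Nat.dvd_one] at h1
    have := pow_pos hpp.pos 2
    have h2 : 1 < p ^ 2 := one_lt_pow₀ hpp.one_lt (by norm_num)
    omega
  | succ n ih =>
    intro X _ _ hX A hA hC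
    have h1 : Nat.card A ∣ Nat.card X := Subgroup.card_subgroup_dvd_card A
    rw [hA, hX] at h1
    have hn2 : 2 ≤ n + 1 := (Nat.pow_dvd_pow_iff_le_right hpp.one_lt).mp h1
    have hXp : IsPGroup p X := IsPGroup.of_card hX
    by_cases hn : n + 1 = 2
    · -- `X = A` has order `p²`
      letI : CommGroup X := IsPGroup.commGroupOfCardEqPrimeSq (p := p) (by rw [hX, hn])
      have hle : Group.nilpotencyClass X ≤ 1 := CommGroup.nilpotencyClass_le_one
      have hne : Group.nilpotencyClass X ≠ 0 := by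
        intro h0
        rw [Group.nilpotencyClass_zero_iff_subsingleton] at h0
        have : Nat.card X = 1 := Nat.card_of_subsingleton 1
        rw [hX, hn] at this
        have h2 : 1 < p ^ 2 := one_lt_pow₀ hpp.one_lt (by norm_num)
        omega
      rw [show n + 1 - 1 = 1 by omega]
      omega
    have hn3 : 3 ≤ n + 1 := by omega
    haveI : Nontrivial X := by
      rw [← Finite.one_lt_card_iff_nontrivial, hX]
      exact Nat.one_lt_pow (by omega) hpp.one_lt
    set Z := center X with hZ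
    have hZA : Z ≤ A := by
      intro z hz
      rw [← SetLike.mem_coe, ← hC]
      exact SetLike.mem_coe.mpr (Subgroup.mem_centralizer_iff.mpr (fun a _ => (Subgroup.mem_center_iff.mp hz a)))
    have hZne : Z ≠ ⊥ := (hXp.bot_lt_center).ne'
    have hAne : A ≠ ⊤ := by
      intro h
      have h2 : Nat.card A = Nat.card X := by rw [h, Subgroup.card_top]
      rw [hA, hX] at h2
      have := Nat.pow_right_injective hpp.two_le h2
      omega
    have hZcard : Nat.card Z = p := by
      have h2 : Nat.card Z ∣ p ^ 2 := by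
        rw [← hA]; exact Subgroup.card_dvd_of_le hZA
      obtain ⟨j, hj, hj2⟩ := (Nat.dvd_prime_pow hpp).mp h2
      interval_cases j
      · exfalso
        exact hZne (Subgroup.card_eq_one.mp (by simpa using hj2))
      · simpa using hj2
      · exfalso
        have h3 : Z = A := Subgroup.eq_of_le_of_card_ge hZA (by rw [hA, hj2])
        apply hAne
        rw [eq_top_iff]
        intro x _
        have : x ∈ centralizer (A : Set X) := by
          refine Subgroup.mem_centralizer_iff.mpr ?_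
          intro a ha
          have ha' : a ∈ Z := by rw [h3]; exact ha
          exact (Subgroup.mem_center_iff.mp ha' x).symm
        rw [hC] at this
        exact this
    -- pass to the quotient
    set Q := X ⧸ Z with hQ
    set π : X →* Q := QuotientGroup.mk' Z with hπ
    have hπs : Function.Surjective π := QuotientGroup.mk'_surjective Z
    have hπk : ∀ x, π x = 1 ↔ x ∈ Z := fun x => QuotientGroup.eq_one_iff x
    have hQcard : Nat.card Q = p ^ n := by
      have h2 := Subgroup.card_eq_card_quotient_mul_card_subgroup Z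
      rw [hX, hZcard, pow_succ] at h2
      exact (Nat.eq_of_mul_eq_mul_right hpp.pos h2).symm
    have hQp : IsPGroup p Q := IsPGroup.of_card hQcard
    haveI : Nontrivial Q := by
      rw [← Finite.one_lt_card_iff_nontrivial, hQcard]
      exact Nat.one_lt_pow (by omega) hpp.one_lt
    set Ab : Subgroup Q := A.map π with hAb
    have hAcomap : Ab.comap π = A := by
      rw [hAb]
      apply Subgroup.comap_map_eq_self
      rw [hπ, QuotientGroup.ker_mk']
      exact hZA
    have hAbcard : Nat.card Ab = p := by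
      have h2 := card_comap_mk Z Ab
      rw [← hπ, hAcomap, hA, hZcard, pow_two] at h2
      exact (Nat.eq_of_mul_eq_mul_right hpp.pos h2).symm
    -- a generator modulo `Z`
    have hAbne : Ab ≠ ⊥ := by
      intro h
      rw [h, Subgroup.card_bot] at hAbcard
      exact hpp.one_lt.ne hAbcard
    obtain ⟨b₀, hb₀, hb₀1⟩ := (Subgroup.bot_or_exists_ne_one Ab).resolve_left hAbne
    obtain ⟨a₀, ha₀, rfl⟩ := hb₀
    have hAbgen : ∀ a ∈ A, ∃ (k : ℤ) (z : X), z ∈ Z ∧ a = a₀ ^ k * z := by
      intro a ha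
      have h2 := mem_zpowers_of_prime_card (G := Ab) hAbcard (g := ⟨π a₀, ⟨a₀, ha₀, rfl⟩⟩) (g' := ⟨π a, ⟨a, ha, rfl⟩⟩)
        (fun h => hb₀1 (congrArg Subtype.val h))
      obtain ⟨k, hk⟩ := Subgroup.mem_zpowers_iff.mp h2
      have h3 : π a₀ ^ k = π a := congrArg Subtype.val hk
      refine ⟨k, (a₀ ^ k)⁻¹ * a, ?_, by group⟩
      rw [← hπk, map_mul, map_inv, map_zpow, h3, inv_mul_cancel]
    set Nb : Subgroup Q := centralizer (Ab : Set Q) with hNb
    have hAbNb : Ab ≤ Nb := by
      intro x hx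
      refine Subgroup.mem_centralizer_iff.mpr ?_
      intro y hy
      haveI := isCyclic_of_prime_card hAbcard
      have := mul_comm' (⟨y, hy⟩ : Ab) ⟨x, hx⟩ 
      exact congrArg Subtype.val this
    have hlt : Ab < Nb := by
      refine lt_of_le_of_ne hAbNb ?_
      intro heq
      have hcb : center Q ≠ ⊥ := (hQp.bot_lt_center).ne'
      obtain ⟨z, hz, hz1⟩ := (Subgroup.bot_or_exists_ne_one (center Q)).resolve_left hcb
      by_cases hzA : z ∈ Ab
      · -- `Ab` central
        have h2 : Nb = ⊤ := by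
          rw [eq_top_iff]
          intro x _
          refine Subgroup.mem_centralizer_iff.mpr ?_
          intro y hy
          have h3 := mem_zpowers_of_prime_card (G := Ab) hAbcard (g := ⟨z, hzA⟩) (g' := ⟨y, hy⟩)
            (fun h => hz1 (congrArg Subtype.val h))
          obtain ⟨k, hk⟩ := Subgroup.mem_zpowers_iff.mp h3
          have h4 : z ^ k = y := congrArg Subtype.val hk
          rw [← h4]
          have h5 : Commute z x := (Subgroup.mem_center_iff.mp hz x).symm
          exact (h5.zpow_left k).eq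
        rw [h2] at heq
        have h3 : Nat.card Ab = Nat.card Q := by rw [heq, Subgroup.card_top]
        rw [hAbcard, hQcard] at h3
        have h4 := Nat.pow_right_injective hpp.two_le ((pow_one p).trans h3)
        omega
      · apply hzA
        rw [heq]
        exact Subgroup.mem_centralizer_iff.mpr (fun y _ => (Subgroup.mem_center_iff.mp hz y))
    have hdvd : p * Nat.card Ab ∣ Nat.card Nb := CfsgLib.PLocal.p_mul_card_dvd_of_lt (hQp.to_subgroup Nb) hlt
    -- upper bound
    set B : Subgroup X := Nb.comap π with hB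
    have hBcard : Nat.card B = Nat.card Nb * p := by
      rw [← hZcard]
      exact card_comap_mk Z Nb
    have hmemB : ∀ g ∈ B, ⁅g, a₀⁆ ∈ Z := by
      intro g hg
      rw [← hπk, map_commutatorElement, commutatorElement_eq_one_iff_mul_comm]
      have h2 : π g ∈ Nb := hg
      exact (Subgroup.mem_centralizer_iff.mp h2 (π a₀) ⟨a₀, ha₀, rfl⟩).symm
    have hZc : ∀ z ∈ Z, ∀ g : X, z * g = g * z := fun z hz g => (Subgroup.mem_center_iff.mp hz g).symm
    let f : B →* Z := MonoidHom.mk' (fun g => ⟨⁅(g : X), a₀⁆, hmemB g g.2⟩) (by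
      intro g h
      apply Subtype.ext
      show ⁅(g : X) * h, a₀⁆ = ⁅(g : X), a₀⁆ * ⁅(h : X), a₀⁆
      have e1 := hZc _ (hmemB h h.2) (g : X)
      calc ⁅(g : X) * h, a₀⁆ = (g : X) * ⁅(h : X), a₀⁆ * a₀ * (g : X)⁻¹ * a₀⁻¹ := by
            simp only [commutatorElement_def]; group
        _ = ⁅(h : X), a₀⁆ * (g : X) * a₀ * (g : X)⁻¹ * a₀⁻¹ := by rw [e1]
        _ = ⁅(h : X), a₀⁆ * ⁅(g : X), a₀⁆ := by
            simp only [commutatorElement_def]; group
        _ = ⁅(g : X), a₀⁆ * ⁅(h : X), a₀⁆ := hZc _ (hmemB h h.2) _)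
    have hkerA : ∀ g : B, g ∈ f.ker → (g : X) ∈ A := by
      intro g hg
      have h2 : ⁅(g : X), a₀⁆ = 1 := congrArg Subtype.val (MonoidHom.mem_ker.mp hg)
      have h3 : Commute (g : X) a₀ := commutatorElement_eq_one_iff_mul_comm.mp h2
      have h4 : (g : X) ∈ centralizer (A : Set X) := by
        refine Subgroup.mem_centralizer_iff.mpr ?_
        intro a ha
        obtain ⟨k, z, hz, rfl⟩ := hAbgen a ha
        have h5 : Commute (a₀ ^ k) (g : X) := (h3.symm.zpow_left k)
        have h6 : z * (g : X) = (g : X) * z := hZc z hz _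
        calc a₀ ^ k * z * (g : X) = a₀ ^ k * (z * (g : X)) := by group
          _ = a₀ ^ k * ((g : X) * z) := by rw [h6]
          _ = (a₀ ^ k * (g : X)) * z := by group
          _ = ((g : X) * a₀ ^ k) * z := by rw [h5.eq]
          _ = (g : X) * (a₀ ^ k * z) := by group
      rw [hC] at h4
      exact h4
    have hkercard : Nat.card f.ker ≤ p ^ 2 := by
      rw [← hA]
      let j : f.ker → A := fun g => ⟨(g : B), hkerA g g.2⟩
      apply Nat.card_le_card_of_injective j
      intro a b hab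
      apply Subtype.ext
      apply Subtype.ext
      exact congrArg (fun z : A => (z : X)) hab
    have hidxcard : f.ker.index ≤ p := by
      rw [Subgroup.index_ker, ← hZcard]
      exact Subgroup.card_le_card_group _
    have hBle : Nat.card B ≤ p ^ 2 * p := by
      rw [← Subgroup.card_mul_index f.ker]
      exact Nat.mul_le_mul hkercard hidxcard
    have hNbcard : Nat.card Nb = p ^ 2 := by
      rw [hBcard] at hBle
      have h2 : Nat.card Nb ≤ p ^ 2 := Nat.le_of_mul_le_mul_right hBle hpp.pos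
      rw [hAbcard] at hdvd
      have h3 : p ^ 2 ∣ Nat.card Nb := by rwa [pow_two]
      exact le_antisymm h2 (Nat.le_of_dvd Nat.card_pos h3)
    have hNbcomm : ∀ a b : Nb, a * b = b * a := IsPGroup.commutative_of_card_eq_prime_sq hNbcard
    have hNbC : centralizer (Nb : Set Q) = Nb := by
      apply le_antisymm
      · intro x hx
        refine Subgroup.mem_centralizer_iff.mpr ?_
        intro y hy
        exact Subgroup.mem_centralizer_iff.mp hx y (hAbNb hy)
      · intro x hx
        refine Subgroup.mem_centralizer_iff.mpr ?_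
        intro y hy
        exact congrArg Subtype.val (hNbcomm ⟨y, hy⟩ ⟨x, hx⟩)
    have h7 := ih Q hQcard Nb hNbcard hNbC
    have h8 : Group.nilpotencyClass Q = Group.nilpotencyClass X - 1 := nilpotencyClass_quotient_center
    rw [h8] at h7
    rw [Nat.add_sub_cancel]
    omega

section TwoGroup

variable {P : Type u} [Group P] [Finite P]

/-- If `X` is abelian of index two and `y ∉ X`, the derived group is generated by `[a, y]`, `a ∈ X`. -/
theorem commutator_le_of_index_two (X : Subgroup P) (hX : X.index = 2) (hab : ∀ a ∈ X, ∀ b ∈ X, a * b = b * a)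
    (y : P) (hy : y ∉ X) (L : Subgroup P) (hL : ∀ a ∈ X, ⁅a, y⁆ ∈ L) : commutator P ≤ L := by
  classical
  haveI hXn : X.Normal := Subgroup.normal_of_index_eq_two hX
  have hdec : ∀ g : P, g ∈ X ∨ g * y⁻¹ ∈ X := by
    intro g
    by_cases hg : g ∈ X
    · exact Or.inl hg
    · right
      exact (Subgroup.mul_mem_iff_of_index_two hX).mpr (by
        constructor
        · intro h; exact absurd h hg
        · intro h; exact absurd (X.inv_mem_iff.mp h) hy)
  have hτX : ∀ a ∈ X, ⁅a, y⁆ ∈ X := by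
    intro a ha
    have h1 : ⁅a, y⁆ = a * (y * a⁻¹ * y⁻¹) := by
      simp only [commutatorElement_def]; group
    rw [h1]
    exact X.mul_mem ha (hXn.conj_mem _ (X.inv_mem ha) y)
  have hB : ∀ a ∈ X, ∀ b ∈ X, ⁅a, b * y⁆ ∈ L := by
    intro a ha b hb
    have h1 : ⁅a, b * y⁆ = b * ⁅a, y⁆ * b⁻¹ := by
      calc ⁅a, b * y⁆ = (a * b) * y * a⁻¹ * y⁻¹ * b⁻¹ := by
            simp only [commutatorElement_def]; group
        _ = (b * a) * y * a⁻¹ * y⁻¹ * b⁻¹ := by rw [hab a ha b hb]
        _ = _ := by simp only [commutatorElement_def]; group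
    rw [h1, hab b hb _ (hτX a ha)]
    have : ⁅a, y⁆ * b * b⁻¹ = ⁅a, y⁆ := by group
    rw [this]
    exact hL a ha
  rw [commutator_def, Subgroup.commutator_le]
  intro g _ h _
  rcases hdec g with hg | hg <;> rcases hdec h with hh | hh
  · have : ⁅g, h⁆ = 1 := commutatorElement_eq_one_iff_mul_comm.mpr (hab g hg h hh)
    rw [this]
    exact one_mem _
  · have h1 := hB g hg (h * y⁻¹) hh
    have e1 : h * y⁻¹ * y = h := by group
    rwa [e1] at h1
  · have h1 := hB h hh (g * y⁻¹) hg
    have e1 : g * y⁻¹ * y = g := by group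
    rw [e1] at h1
    have h2 := L.inv_mem h1
    rwa [commutatorElement_inv] at h2
  · set a := g * y⁻¹ with ha
    set b := h * y⁻¹ with hb
    have hgy : g = a * y := by rw [ha]; group
    have hhy : h = b * y := by rw [hb]; group
    have hc : a * b⁻¹ ∈ X := X.mul_mem hg (X.inv_mem hh)
    have hv : y * (b * a⁻¹) * y⁻¹ ∈ X := hXn.conj_mem _ (X.mul_mem hh (X.inv_mem hg)) y
    have h1 : ⁅g, h⁆ = ⁅a * b⁻¹, y⁆ := by
      rw [hgy, hhy]
      calc ⁅a * y, b * y⁆ = a * (y * (b * a⁻¹) * y⁻¹) * b⁻¹ := by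
            simp only [commutatorElement_def]; group
        _ = a * ((y * (b * a⁻¹) * y⁻¹) * b⁻¹) := by group
        _ = a * (b⁻¹ * (y * (b * a⁻¹) * y⁻¹)) := by rw [hab _ hv _ (X.inv_mem hh)]
        _ = ⁅a * b⁻¹, y⁆ := by simp only [commutatorElement_def]; group
    rw [h1]
    exact hL _ hc

/-- An odd power generates in a `2`-group. -/
theorem mem_zpowers_odd_pow {t : P} {N : ℕ} (ht : t ^ 2 ^ N = 1) {m : ℤ} (hm : Odd m) : t ∈ zpowers (t ^ m) := by
  have hc : IsCoprime m ((2 : ℤ) ^ N) := by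
    apply IsCoprime.pow_right
    obtain ⟨k, hk⟩ := hm
    exact ⟨1, -k, by rw [hk]; ring⟩
  obtain ⟨u, v, huv⟩ := hc
  rw [Subgroup.mem_zpowers_iff]
  refine ⟨u, ?_⟩
  have h1 : t ^ ((2 : ℤ) ^ N) = 1 := by
    have : ((2 : ℤ) ^ N) = ((2 ^ N : ℕ) : ℤ) := by push_cast; ring
    rw [this, zpow_natCast, ht]
  have h2 : t ^ (u * m + v * (2 : ℤ) ^ N) = t := by rw [huv, zpow_one]
  rw [zpow_add, mul_comm v, zpow_mul t ((2 : ℤ) ^ N), h1, one_zpow, mul_one, mul_comm u, zpow_mul] at h2
  exact h2

/-- The commutator with a fixed element is multiplicative on an abelian normal subgroup. -/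
theorem comm_zpow_of_abelian (X : Subgroup P) (hXn : X.Normal) (hab : ∀ a ∈ X, ∀ b ∈ X, a * b = b * a) (y : P)
    {x : P} (hx : x ∈ X) (i : ℤ) : ⁅x ^ i, y⁆ = ⁅x, y⁆ ^ i := by
  have hτX : ∀ a ∈ X, ⁅a, y⁆ ∈ X := by
    intro a ha
    have h1 : ⁅a, y⁆ = a * (y * a⁻¹ * y⁻¹) := by
      simp only [commutatorElement_def]; group
    rw [h1]
    exact X.mul_mem ha (hXn.conj_mem _ (X.inv_mem ha) y)
  let τ : X →* X := MonoidHom.mk' (fun a => ⟨⁅(a : P), y⁆, hτX a a.2⟩) (by
    intro a b
    apply Subtype.ext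
    show ⁅(a : P) * b, y⁆ = ⁅(a : P), y⁆ * ⁅(b : P), y⁆
    have h1 : ⁅(a : P) * b, y⁆ = (a : P) * ⁅(b : P), y⁆ * (a : P)⁻¹ * ⁅(a : P), y⁆ := by
      simp only [commutatorElement_def]; group
    rw [h1, hab _ a.2 _ (hτX b b.2)]
    have e1 : ⁅(b : P), y⁆ * a * (a : P)⁻¹ = ⁅(b : P), y⁆ := by group
    rw [e1]
    exact hab _ (hτX b b.2) _ (hτX a a.2))
  have h := map_zpow τ ⟨x, hx⟩ i
  exact congrArg Subtype.val h

/-- **Taussky**: with abelianization of order four there is a cyclic subgroup of index two. -/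
theorem taussky_cyclic : ∀ (n : ℕ) (P : Type u) [Group P] [Finite P], 3 ≤ n → Nat.card P = 2 ^ n →
    (commutator P).index = 4 → ∃ x : P, orderOf x = 2 ^ (n - 1) := by
  classical
  haveI hf2 : Fact (Nat.Prime 2) := ⟨Nat.prime_two⟩
  intro n
  induction n with
  | zero => intro P _ _ h; omega
  | succ n ih =>
    intro P _ _ hn hP hidx
    have hPp : IsPGroup 2 P := IsPGroup.of_card hP
    have hDcard : Nat.card (commutator P) = 2 ^ (n + 1 - 2) := by
      have h1 := Subgroup.card_mul_index (commutator P)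
      rw [hidx, hP] at h1
      have e : 2 ^ (n + 1) = 2 ^ (n + 1 - 2) * 4 := by
        have : n + 1 = (n + 1 - 2) + 2 := by omega
        conv_lhs => rw [this, pow_add]
        norm_num
      rw [e] at h1
      exact Nat.eq_of_mul_eq_mul_right (by norm_num) h1
    have hnonab : ¬ ∀ a b : P, a * b = b * a := by
      intro hc
      have h1 : commutator P = ⊥ := by
        rw [eq_bot_iff, commutator_def, Subgroup.commutator_le]
        intro a _ b _
        rw [Subgroup.mem_bot, commutatorElement_eq_one_iff_mul_comm]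
        exact hc a b
      rw [h1, Subgroup.index_bot, hP] at hidx
      have h2 : 2 ^ 3 ≤ 2 ^ (n + 1) := Nat.pow_le_pow_right (by norm_num) hn
      omega
    by_cases hn3 : n + 1 = 3
    · -- order 8
      have hn2 : n = 2 := by omega
      subst hn2
      have hex : ∃ x : P, x ^ 2 ≠ 1 := by
        by_contra hne
        push Not at hne
        apply hnonab
        intro a b
        have h1 := hne (a * b)
        have h2 := hne a
        have h3 := hne b
        have ha : a⁻¹ = a := inv_eq_of_mul_eq_one_left (by rw [← pow_two]; exact h2)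
        have hb : b⁻¹ = b := inv_eq_of_mul_eq_one_left (by rw [← pow_two]; exact h3)
        have h4 : (a * b)⁻¹ = a * b := inv_eq_of_mul_eq_one_left (by rw [← pow_two]; exact h1)
        rw [mul_inv_rev, ha, hb] at h4
        exact h4.symm
      obtain ⟨x, hx⟩ := hex
      refine ⟨x, ?_⟩
      have h1 : orderOf x ∣ 2 ^ 3 := by
        rw [← hP]; exact orderOf_dvd_natCard x
      obtain ⟨j, hj, hj2⟩ := (Nat.dvd_prime_pow Nat.prime_two).mp h1
      interval_cases j
      · exfalso
        rw [pow_zero, orderOf_eq_one_iff] at hj2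
        apply hx
        rw [hj2, one_pow]
      · exfalso
        apply hx
        rw [← orderOf_dvd_iff_pow_eq_one, hj2]
        norm_num
      · rw [hj2]
      · exfalso
        apply hnonab
        haveI : IsCyclic P := isCyclic_of_orderOf_eq_card x (by rw [hj2, hP])
        intro a b
        have h7 : IsMulCommutative P := IsCyclic.isMulCommutative
        exact h7.is_comm.comm a b
    have hn4 : 4 ≤ n + 1 := by omega
    -- a central involution in the derived group
    set D := commutator P with hD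
    haveI hDn : D.Normal := inferInstance
    haveI hnil : Group.IsNilpotent P := hPp.isNilpotent
    have hDne : D ≠ ⊥ := by
      intro h
      apply hnonab
      intro a b
      have h1 : ⁅a, b⁆ ∈ D := by
        rw [hD, commutator_def]
        exact Subgroup.commutator_mem_commutator (Subgroup.mem_top _) (Subgroup.mem_top _)
      rw [h, Subgroup.mem_bot] at h1
      exact commutatorElement_eq_one_iff_mul_comm.mp h1
    have hZD := normal_inf_center_ne_bot D hDne
    have h2dvd : 2 ∣ Nat.card (D ⊓ center P : Subgroup P) := by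
      have h1 : IsPGroup 2 (D ⊓ center P : Subgroup P) := hPp.to_subgroup _
      obtain ⟨k, hk⟩ := IsPGroup.iff_card.mp h1
      rw [hk]
      apply dvd_pow_self
      rintro rfl
      rw [pow_zero] at hk
      exact hZD (Subgroup.card_eq_one.mp hk)
    obtain ⟨⟨z₀, hz₀⟩, hz₀o⟩ := exists_prime_orderOf_dvd_card' 2 h2dvd
    rw [Subgroup.orderOf_mk] at hz₀o
    have hz₀D : z₀ ∈ D := hz₀.1
    have hz₀c : ∀ g : P, z₀ * g = g * z₀ := fun g => (Subgroup.mem_center_iff.mp hz₀.2 g).symm
    have hz₀1 : z₀ ≠ 1 := by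
      rintro rfl
      simp at hz₀o
    have hz₀2 : z₀ ^ 2 = 1 := by rw [← hz₀o]; exact pow_orderOf_eq_one z₀
    set Z₀ : Subgroup P := zpowers z₀ with hZ₀
    have hZ₀c : ∀ a ∈ Z₀, ∀ g : P, a * g = g * a := by
      intro a ha g
      obtain ⟨k, rfl⟩ := Subgroup.mem_zpowers_iff.mp ha
      have h1 : Commute z₀ g := hz₀c g
      exact (h1.zpow_left k).eq
    haveI hZ₀n : Z₀.Normal := by
      constructor
      intro a ha g
      rw [← hZ₀c a ha g]
      simpa using ha
    have hZ₀card : Nat.card Z₀ = 2 := by rw [hZ₀, Nat.card_zpowers, hz₀o]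
    have hZ₀D : Z₀ ≤ D := Subgroup.zpowers_le.mpr hz₀D
    have hZ₀mem : ∀ a ∈ Z₀, a = 1 ∨ a = z₀ := by
      intro a ha
      obtain ⟨k, rfl⟩ := Subgroup.mem_zpowers_iff.mp ha
      rcases Int.even_or_odd' k with ⟨m, rfl | rfl⟩
      · left
        rw [zpow_mul, zpow_ofNat, hz₀2, one_zpow]
      · right
        rw [zpow_add, zpow_mul, zpow_ofNat, hz₀2, one_zpow, one_mul, zpow_one]
    -- the quotient
    set Q := P ⧸ Z₀ with hQ
    set π : P →* Q := QuotientGroup.mk' Z₀ with hπ
    have hπs : Function.Surjective π := QuotientGroup.mk'_surjective Z₀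
    have hπk : ∀ a, π a = 1 ↔ a ∈ Z₀ := fun a => QuotientGroup.eq_one_iff a
    have hQcard : Nat.card Q = 2 ^ n := by
      have h1 := Subgroup.card_eq_card_quotient_mul_card_subgroup Z₀
      rw [hP, hZ₀card, pow_succ] at h1
      exact (Nat.eq_of_mul_eq_mul_right (by norm_num) h1).symm
    have hQidx : (commutator Q).index = 4 := by
      have h1 : commutator Q = D.map π := by
        rw [hD, commutator_def, commutator_def, Subgroup.map_commutator, Subgroup.map_top_of_surjective π hπs]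
      rw [h1, Subgroup.index_map, hπ, QuotientGroup.ker_mk', sup_of_le_left hZ₀D,
        MonoidHom.range_eq_top.mpr (QuotientGroup.mk'_surjective Z₀), Subgroup.index_top, mul_one]
      exact hidx
    obtain ⟨xb, hxb⟩ := ih Q (by omega) hQcard hQidx
    obtain ⟨x, rfl⟩ := hπs xb
    have hxe : π (x ^ 2 ^ (n - 1)) = 1 := by
      rw [map_pow, ← hxb]
      exact pow_orderOf_eq_one _
    rw [hπk] at hxe
    have hn1 : n + 1 - 1 = (n - 1) + 1 := by omega
    rcases hZ₀mem _ hxe with he | he
    swap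
    · refine ⟨x, ?_⟩
      rw [hn1]
      apply orderOf_eq_prime_pow
      · rw [he]; exact hz₀1
      · rw [pow_succ, pow_mul, he, hz₀2]
    exfalso
    have hxo : orderOf x = 2 ^ (n - 1) := by
      apply Nat.dvd_antisymm (orderOf_dvd_of_pow_eq_one he)
      rw [← hxb]
      exact orderOf_map_dvd π x
    -- the subgroup `X`
    set X : Subgroup P := (zpowers (π x)).comap π with hX
    have hXidx : X.index = 2 := by
      rw [hX, Subgroup.index_comap_of_surjective _ hπs]
      have h1 := Subgroup.card_mul_index (zpowers (π x))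
      rw [Nat.card_zpowers, hxb, hQcard] at h1
      have e : 2 ^ n = 2 ^ (n - 1) * 2 := by rw [← pow_succ]; congr 1
      rw [e] at h1
      exact Nat.eq_of_mul_eq_mul_left (by positivity) h1
    haveI hXn : X.Normal := Subgroup.normal_of_index_eq_two hXidx
    have hXdec : ∀ a ∈ X, ∃ (i k : ℤ), a = x ^ i * z₀ ^ k := by
      intro a ha
      obtain ⟨i, hi⟩ := Subgroup.mem_zpowers_iff.mp (show π a ∈ zpowers (π x) from ha)
      have h1 : (x ^ i)⁻¹ * a ∈ Z₀ := by
        rw [← hπk, map_mul, map_inv, map_zpow, hi, inv_mul_cancel]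
      obtain ⟨k, hk⟩ := Subgroup.mem_zpowers_iff.mp h1
      exact ⟨i, k, by rw [hk]; group⟩
    have hZ₀pc : ∀ (k : ℤ) (g : P), z₀ ^ k * g = g * z₀ ^ k := by
      intro k g
      have h1 : Commute z₀ g := hz₀c g
      exact (h1.zpow_left k).eq
    have hXab : ∀ a ∈ X, ∀ b ∈ X, a * b = b * a := by
      intro a ha b hb
      obtain ⟨i, k, rfl⟩ := hXdec a ha
      obtain ⟨j, l, rfl⟩ := hXdec b hb
      have h1 : x ^ i * x ^ j = x ^ j * x ^ i := (Commute.refl x).zpow_zpow i j
      calc x ^ i * z₀ ^ k * (x ^ j * z₀ ^ l) = x ^ i * (z₀ ^ k * (x ^ j * z₀ ^ l)) := by group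
        _ = x ^ i * ((x ^ j * z₀ ^ l) * z₀ ^ k) := by rw [hZ₀pc k]
        _ = (x ^ i * x ^ j) * (z₀ ^ l * z₀ ^ k) := by group
        _ = (x ^ j * x ^ i) * (z₀ ^ l * z₀ ^ k) := by rw [h1]
        _ = x ^ j * (z₀ ^ l * (x ^ i * z₀ ^ k)) := by
            rw [hZ₀pc l (x ^ i * z₀ ^ k)]
            group
        _ = x ^ j * z₀ ^ l * (x ^ i * z₀ ^ k) := by group
    have hxX : x ∈ X := Subgroup.mem_zpowers (π x)
    have hz₀X : z₀ ∈ X := by
      show π z₀ ∈ zpowers (π x)
      rw [(hπk z₀).mpr (Subgroup.mem_zpowers z₀)]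
      exact one_mem _
    obtain ⟨y, hy⟩ : ∃ y, y ∉ X := by
      by_contra hne
      push Not at hne
      have h1 : X = ⊤ := (Subgroup.eq_top_iff' X).mpr hne
      rw [h1, Subgroup.index_top] at hXidx
      omega
    set w := ⁅x, y⁆ with hw
    have hτ : ∀ a ∈ X, ⁅a, y⁆ ∈ zpowers w := by
      intro a ha
      obtain ⟨i, k, rfl⟩ := hXdec a ha
      have h1 : ⁅x ^ i * z₀ ^ k, y⁆ = ⁅x ^ i, y⁆ := by
        simp only [commutatorElement_def]
        have h2 := hZ₀pc k (y * (x ^ i * z₀ ^ k)⁻¹ * y⁻¹)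
        have e1 : x ^ i * z₀ ^ k * y * (x ^ i * z₀ ^ k)⁻¹ * y⁻¹ = x ^ i * (z₀ ^ k * (y * (x ^ i * z₀ ^ k)⁻¹ * y⁻¹)) := by group
        rw [e1, h2]
        have h3 : (x ^ i * z₀ ^ k)⁻¹ = (x ^ i)⁻¹ * (z₀ ^ k)⁻¹ := by
          rw [mul_inv_rev]
          have h4 : (z₀ ^ k)⁻¹ * (x ^ i)⁻¹ = (x ^ i)⁻¹ * (z₀ ^ k)⁻¹ := by
            rw [← zpow_neg, hZ₀pc (-k)]
          exact h4
        rw [h3]
        have h5 : (z₀ ^ k)⁻¹ * y⁻¹ = y⁻¹ * (z₀ ^ k)⁻¹ := by
          rw [← zpow_neg, hZ₀pc (-k)]
        calc x ^ i * (y * ((x ^ i)⁻¹ * (z₀ ^ k)⁻¹) * y⁻¹ * z₀ ^ k)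
            = x ^ i * y * (x ^ i)⁻¹ * ((z₀ ^ k)⁻¹ * y⁻¹) * z₀ ^ k := by group
          _ = x ^ i * y * (x ^ i)⁻¹ * (y⁻¹ * (z₀ ^ k)⁻¹) * z₀ ^ k := by rw [h5]
          _ = x ^ i * y * (x ^ i)⁻¹ * y⁻¹ := by group
      rw [h1, comm_zpow_of_abelian X hXn hXab y hxX i]
      exact Subgroup.zpow_mem _ (Subgroup.mem_zpowers w) i
    have hDL : D ≤ zpowers w := commutator_le_of_index_two X hXidx hXab y hy _ hτ
    obtain ⟨t, ht⟩ := Subgroup.mem_zpowers_iff.mp (hDL hz₀D)
    have hwX : w ∈ X := by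
      have h1 : w = x * (y * x⁻¹ * y⁻¹) := by
        rw [hw]; simp only [commutatorElement_def]; group
      rw [h1]
      exact X.mul_mem hxX (hXn.conj_mem _ (X.inv_mem hxX) y)
    obtain ⟨i, k, hik⟩ := hXdec w hwX
    have hwpow : w ^ 2 ^ (n + 1) = 1 := by
      rw [← hP]
      exact pow_card_eq_one'
    have hDle : 2 ^ (n + 1 - 2) ≤ orderOf w := by
      rw [← hDcard, ← Nat.card_zpowers]
      exact Subgroup.card_le_of_le hDL
    have h4le : 2 ^ 2 ≤ orderOf w := by
      refine le_trans ?_ hDle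
      exact Nat.pow_le_pow_right (by norm_num) (by omega)
    rcases Int.even_or_odd' t with ⟨s, rfl | rfl⟩
    · -- `t` even
      have hcomm : Commute (x ^ i) (z₀ ^ k) := (hZ₀pc k (x ^ i)).symm
      have h1 : z₀ = x ^ (i * (2 * s)) := by
        rw [← ht, hik, hcomm.mul_zpow, ← zpow_mul, ← zpow_mul]
        have h2 : z₀ ^ (k * (2 * s)) = 1 := by
          rw [show k * (2 * s) = 2 * (k * s) by ring, zpow_mul, zpow_ofNat, hz₀2, one_zpow]
        rw [h2, mul_one]
      have h2 : π x ^ (i * (2 * s)) = 1 := by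
        rw [← map_zpow, ← h1, (hπk z₀).mpr (Subgroup.mem_zpowers z₀)]
      have h3 : ((orderOf (π x) : ℕ) : ℤ) ∣ i * (2 * s) := orderOf_dvd_iff_zpow_eq_one.mpr h2
      rw [hxb, ← hxo] at h3
      have h4 : x ^ (i * (2 * s)) = 1 := orderOf_dvd_iff_zpow_eq_one.mp h3
      rw [h4] at h1
      exact hz₀1 h1
    · -- `t` odd
      have h1 : w ∈ zpowers z₀ := by
        rw [← ht]
        exact mem_zpowers_odd_pow hwpow ⟨s, rfl⟩
      have h2 : orderOf w ∣ 2 := by
        have := Subgroup.orderOf_dvd_natCard (zpowers z₀) h1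
        rwa [Nat.card_zpowers, hz₀o] at this
      have h3 := Nat.le_of_dvd (by norm_num) h2
      omega

/-- The structure of a `2`-group with abelianization of order four. -/
theorem taussky_struct (n : ℕ) (hn : 3 ≤ n) (hP : Nat.card P = 2 ^ n) (hidx : (commutator P).index = 4) :
    ∃ (x y : P) (m : ℤ), orderOf x = 2 ^ (n - 1) ∧ y ∉ zpowers x ∧ (zpowers x).index = 2 ∧ ⁅x, y⁆ = x ^ (2 * m) ∧
      Odd m := by
  classical
  haveI hf2 : Fact (Nat.Prime 2) := ⟨Nat.prime_two⟩
  obtain ⟨x, hxo⟩ := taussky_cyclic n P hn hP hidx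
  have hn1 : n = (n - 1) + 1 := by omega
  have hXidx : (zpowers x).index = 2 := by
    have h1 := Subgroup.card_mul_index (zpowers x)
    rw [Nat.card_zpowers, hxo, hP] at h1
    have e : 2 ^ n = 2 ^ (n - 1) * 2 := by rw [← pow_succ, ← hn1]
    rw [e] at h1
    exact Nat.eq_of_mul_eq_mul_left (by positivity) h1
  haveI hXn : (zpowers x).Normal := Subgroup.normal_of_index_eq_two hXidx
  have hXab : ∀ a ∈ zpowers x, ∀ b ∈ zpowers x, a * b = b * a := by
    intro a ha b hb
    obtain ⟨i, rfl⟩ := Subgroup.mem_zpowers_iff.mp ha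
    obtain ⟨j, rfl⟩ := Subgroup.mem_zpowers_iff.mp hb
    exact (Commute.refl x).zpow_zpow i j
  obtain ⟨y, hy⟩ : ∃ y, y ∉ zpowers x := by
    by_contra hne
    push Not at hne
    have h1 : zpowers x = ⊤ := (Subgroup.eq_top_iff' _).mpr hne
    rw [h1, Subgroup.index_top] at hXidx
    omega
  set w := ⁅x, y⁆ with hw
  have hτ : ∀ a ∈ zpowers x, ⁅a, y⁆ ∈ zpowers w := by
    intro a ha
    obtain ⟨i, rfl⟩ := Subgroup.mem_zpowers_iff.mp ha
    rw [comm_zpow_of_abelian _ hXn hXab y (Subgroup.mem_zpowers x) i]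
    exact Subgroup.zpow_mem _ (Subgroup.mem_zpowers w) i
  have hDL : commutator P ≤ zpowers w := commutator_le_of_index_two _ hXidx hXab y hy _ hτ
  have hwD : zpowers w ≤ commutator P := by
    rw [Subgroup.zpowers_le, commutator_def]
    exact Subgroup.commutator_mem_commutator (Subgroup.mem_top _) (Subgroup.mem_top _)
  have hDeq : commutator P = zpowers w := le_antisymm hDL hwD
  have hDcard : Nat.card (commutator P) = 2 ^ (n - 2) := by
    have h1 := Subgroup.card_mul_index (commutator P)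
    rw [hidx, hP] at h1
    have e : 2 ^ n = 2 ^ (n - 2) * 4 := by
      have : n = (n - 2) + 2 := by omega
      conv_lhs => rw [this, pow_add]
      norm_num
    rw [e] at h1
    exact Nat.eq_of_mul_eq_mul_right (by norm_num) h1
  have hwo : orderOf w = 2 ^ (n - 2) := by
    rw [← Nat.card_zpowers, ← hDeq, hDcard]
  have hwX : w ∈ zpowers x := by
    have h1 : w = x * (y * x⁻¹ * y⁻¹) := by
      rw [hw]; simp only [commutatorElement_def]; group
    rw [h1]
    exact (zpowers x).mul_mem (Subgroup.mem_zpowers x) (hXn.conj_mem _ ((zpowers x).inv_mem (Subgroup.mem_zpowers x)) y)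
  obtain ⟨s, hs⟩ := Subgroup.mem_zpowers_iff.mp hwX
  have hxpow : x ^ 2 ^ (n - 1) = 1 := by rw [← hxo]; exact pow_orderOf_eq_one x
  rcases Int.even_or_odd' s with ⟨t, rfl | rfl⟩
  swap
  · exfalso
    have h1 : x ∈ zpowers w := by
      rw [← hs]
      exact mem_zpowers_odd_pow hxpow ⟨t, rfl⟩
    have h2 := Subgroup.orderOf_dvd_natCard _ h1
    rw [Nat.card_zpowers, hwo, hxo] at h2
    have h3 := (Nat.pow_dvd_pow_iff_le_right (by norm_num : 1 < 2)).mp h2
    omega
  refine ⟨x, y, t, hxo, hy, hXidx, hs.symm, ?_⟩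
  rw [← Int.not_even_iff_odd]
  rintro ⟨u, rfl⟩
  have h1 : w ^ 2 ^ (n - 3) = 1 := by
    rw [← hs, ← zpow_natCast, ← zpow_mul]
    have e : (2 * (u + u)) * ((2 ^ (n - 3) : ℕ) : ℤ) = ((2 ^ (n - 1) : ℕ) : ℤ) * u := by
      have : n - 1 = (n - 3) + 2 := by omega
      rw [this, pow_add]
      push_cast
      ring
    rw [e, zpow_mul, zpow_natCast, hxpow, one_zpow]
  have h2 := orderOf_dvd_of_pow_eq_one h1
  rw [hwo] at h2
  have h3 := (Nat.pow_dvd_pow_iff_le_right (by norm_num : 1 < 2)).mp h2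
  omega

/-- Class from the structure. -/
theorem class_of_struct (n : ℕ) (hn : 3 ≤ n) (hP : Nat.card P = 2 ^ n) {x y : P} {m : ℤ} (hxo : orderOf x = 2 ^ (n - 1))
    (hXidx : (zpowers x).index = 2) (hw : ⁅x, y⁆ = x ^ (2 * m)) (hm : Odd m) :
    Group.nilpotencyClass P = n - 1 := by
  classical
  haveI hf2 : Fact (Nat.Prime 2) := ⟨Nat.prime_two⟩
  have hPp : IsPGroup 2 P := IsPGroup.of_card hP
  haveI hnil : Group.IsNilpotent P := hPp.isNilpotent
  haveI hXn : (zpowers x).Normal := Subgroup.normal_of_index_eq_two hXidx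
  have hXab : ∀ a ∈ zpowers x, ∀ b ∈ zpowers x, a * b = b * a := by
    intro a ha b hb
    obtain ⟨i, rfl⟩ := Subgroup.mem_zpowers_iff.mp ha
    obtain ⟨j, rfl⟩ := Subgroup.mem_zpowers_iff.mp hb
    exact (Commute.refl x).zpow_zpow i j
  have hxpow : x ^ 2 ^ (n - 1) = 1 := by rw [← hxo]; exact pow_orderOf_eq_one x
  have key : ∀ k : ℕ, x ^ 2 ^ (k + 1) ∈ (⊤ : Subgroup P).lowerCentralSeries (k + 1) := by
    intro k
    have hodd : ∀ t : P, t ^ 2 ^ n = 1 → ∀ L : Subgroup P, t ^ m ∈ L → t ∈ L := by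
      intro t ht L hL
      have h1 := mem_zpowers_odd_pow ht hm
      exact (Subgroup.zpowers_le.mpr hL) h1
    have hpw : ∀ t : P, t ^ 2 ^ n = 1 := fun t => by rw [← hP]; exact pow_card_eq_one'
    induction k with
    | zero =>
      apply hodd _ (hpw _)
      have h1 : ⁅x, y⁆ ∈ (⊤ : Subgroup P).lowerCentralSeries 1 := by
        rw [Subgroup.lowerCentralSeries_succ]
        exact Subgroup.commutator_mem_commutator (Subgroup.mem_top _) (Subgroup.mem_top _)
      rw [hw] at h1
      have e : (x ^ 2 ^ (0 + 1)) ^ m = x ^ (2 * m) := by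
        rw [← zpow_natCast, ← zpow_mul]
        norm_num
      rw [e]
      exact h1
    | succ k ih =>
      apply hodd _ (hpw _)
      have h1 : ⁅x ^ 2 ^ (k + 1), y⁆ ∈ (⊤ : Subgroup P).lowerCentralSeries (k + 1 + 1) := by
        rw [Subgroup.lowerCentralSeries_succ _ (k + 1)]
        exact Subgroup.commutator_mem_commutator ih (Subgroup.mem_top _)
      have h2 := comm_zpow_of_abelian _ hXn hXab y (Subgroup.mem_zpowers x) ((2 ^ (k + 1) : ℕ) : ℤ)
      rw [zpow_natCast, zpow_natCast, hw] at h2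
      rw [h2] at h1
      have e : (x ^ 2 ^ (k + 1 + 1)) ^ m = (x ^ (2 * m)) ^ 2 ^ (k + 1) := by
        rw [← zpow_natCast, ← zpow_natCast, ← zpow_mul, ← zpow_mul]
        congr 1
        push_cast
        ring
      rw [e]
      exact h1
  have hbot : (⊤ : Subgroup P).lowerCentralSeries (n - 1) = ⊥ :=
    CfsgLib.PLocal.lcs_eq_bot_of_card hPp (by omega) hP
  have hne2 : (⊤ : Subgroup P).lowerCentralSeries (n - 2) ≠ ⊥ := by
    intro h
    have h1 := key (n - 3)
    have e : n - 3 + 1 = n - 2 := by omega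
    rw [e, h, Subgroup.mem_bot] at h1
    have h2 := orderOf_dvd_of_pow_eq_one h1
    rw [hxo] at h2
    have h3 := (Nat.pow_dvd_pow_iff_le_right (by norm_num : 1 < 2)).mp h2
    omega
  apply le_antisymm
  · exact Subgroup.lowerCentralSeries_eq_bot_iff_nilpotencyClass_le.mp hbot
  · by_contra hlt
    push Not at hlt
    apply hne2
    apply Subgroup.lowerCentralSeries_eq_bot_iff_nilpotencyClass_le.mpr
    omega

/-- A group of maximal class has `|G : G'| = p²`. -/
theorem index_of_max_class {G : Type*} [Group G] [Finite G] {q : ℕ} [hq : Fact q.Prime] (n : ℕ)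
    (hG : Nat.card G = q ^ n) (hcl : Group.nilpotencyClass G = n - 1) (hn : 3 ≤ n) : (commutator G).index = q ^ 2 := by
  have hqq : q.Prime := hq.out
  have hP : IsPGroup q G := IsPGroup.of_card hG
  haveI hnil : Group.IsNilpotent G := hP.isNilpotent
  have hbot : (⊤ : Subgroup G).lowerCentralSeries (n - 1) = ⊥ :=
    Subgroup.lowerCentralSeries_eq_bot_iff_nilpotencyClass_le.mpr (le_of_eq hcl)
  have hne : ∀ k, k < n - 1 → (⊤ : Subgroup G).lowerCentralSeries k ≠ ⊥ := by
    intro k hk h0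
    have := Subgroup.lowerCentralSeries_eq_bot_iff_nilpotencyClass_le.mp h0
    omega
  have hne1 := hne 1 (by omega)
  have hlower : ∀ j k, k + j = n - 1 → q ^ j ≤ Nat.card ((⊤ : Subgroup G).lowerCentralSeries k) := by
    intro j
    induction j with
    | zero => intro k _; rw [pow_zero]; exact Nat.card_pos
    | succ j ih =>
      intro k hk
      have hlt := CfsgLib.PLocal.lcs_succ_lt hP (hne k (by omega))
      have h1 := CfsgLib.PLocal.p_mul_card_dvd_of_lt (hP.to_subgroup _) hlt
      have h2 := Nat.le_of_dvd Nat.card_pos h1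
      have h3 := ih (k + 1) (by omega)
      rw [pow_succ']
      exact (Nat.mul_le_mul_left q h3).trans h2
  have hcard : Nat.card ((⊤ : Subgroup G).lowerCentralSeries 1) = q ^ (n - 2) := by
    apply le_antisymm
    · rcases CfsgLib.PLocal.card_lcs_mul_dvd hP hne1 1 le_rfl with h | h
      · exact absurd h hne1
      · rw [hG] at h
        have h1 := Nat.le_of_dvd (pow_pos hqq.pos n) h
        have e : q ^ n = q ^ (1 + 1) * q ^ (n - 2) := by
          rw [← pow_add]; congr 1; omega
        rw [e] at h1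
        exact Nat.le_of_mul_le_mul_left h1 (pow_pos hqq.pos _)
    · exact hlower _ 1 (by omega)
  have h1 := Subgroup.card_mul_index ((⊤ : Subgroup G).lowerCentralSeries 1)
  rw [hcard, hG] at h1
  have e : q ^ n = q ^ (n - 2) * q ^ 2 := by
    rw [← pow_add]; congr 1; omega
  rw [e] at h1
  exact Nat.eq_of_mul_eq_mul_left (pow_pos hqq.pos _) h1

/-- **S0113** core. -/
theorem max_class_cyclic_index_two (n : ℕ) (hn : 3 ≤ n) (hX : Nat.card P = 2 ^ n)
    (hc : Group.nilpotencyClass P = n - 1) : ∃ C : Subgroup P, IsCyclic C ∧ C.index = 2 := by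
  haveI hf2 : Fact (Nat.Prime 2) := ⟨Nat.prime_two⟩
  have hidx := index_of_max_class n hX hc hn
  obtain ⟨x, y, m, hxo, hy, hXidx, hw, hm⟩ := taussky_struct n hn hX (by rw [hidx]; norm_num)
  exact ⟨zpowers x, inferInstance, hXidx⟩

/-- **S0115** core. -/
theorem max_class_iff_klein (n : ℕ) (hn : 3 ≤ n) (hX : Nat.card P = 2 ^ n) :
    Group.nilpotencyClass P = n - 1 ↔ IsKleinFour (P ⧸ commutator P) := by
  classical
  haveI hf2 : Fact (Nat.Prime 2) := ⟨Nat.prime_two⟩
  have hPp : IsPGroup 2 P := IsPGroup.of_card hX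
  constructor
  · intro hc
    have hidx := index_of_max_class n hX hc hn
    have hQ : Nat.card (P ⧸ commutator P) = 4 := by
      rw [← Subgroup.index, hidx]; norm_num
    have hncyc : ¬ IsCyclic (P ⧸ commutator P) := by
      intro hcyc
      have h1 : (⊤ : Subgroup P).lowerCentralSeries 1 = ⊥ := CfsgLib.PLocal.comm_eq_bot_of_cyclic hPp hcyc
      have h2 : commutator P = ⊥ := h1
      rw [h2, Subgroup.index_bot, hX] at hidx
      have h3 : (2 : ℕ) ^ 2 < 2 ^ n := Nat.pow_lt_pow_right (by norm_num) (by omega)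
      omega
    refine { card_four := hQ, exponent_two := ?_ }
    have hsq : ∀ g : P ⧸ commutator P, g ^ 2 = 1 := by
      intro g
      have h1 : orderOf g ∣ 2 ^ 2 := by
        rw [show (2:ℕ) ^ 2 = 4 by norm_num, ← hQ]; exact orderOf_dvd_natCard g
      obtain ⟨j, hj, hj2⟩ := (Nat.dvd_prime_pow Nat.prime_two).mp h1
      interval_cases j
      · rw [pow_zero, orderOf_eq_one_iff] at hj2
        rw [hj2, one_pow]
      · rw [pow_one] at hj2
        rw [← hj2]; exact pow_orderOf_eq_one g
      · exfalso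
        apply hncyc
        refine isCyclic_of_orderOf_eq_card g ?_
        rw [hQ, hj2]
        norm_num
    have h1 : Monoid.exponent (P ⧸ commutator P) ∣ 2 := Monoid.exponent_dvd_of_forall_pow_eq_one hsq
    rcases (Nat.dvd_prime Nat.prime_two).mp h1 with h2 | h2
    · exfalso
      have h3 : ∀ g : P ⧸ commutator P, g = 1 := by
        intro g
        have := Monoid.pow_exponent_eq_one g
        rwa [h2, pow_one] at this
      have h4 : Nat.card (P ⧸ commutator P) = 1 := by
        rw [Nat.card_eq_one_iff_unique]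
        exact ⟨⟨fun a b => by rw [h3 a, h3 b]⟩, ⟨1⟩⟩
      omega
    · exact h2
  · intro hK
    have hidx : (commutator P).index = 4 := by
      rw [Subgroup.index]
      exact hK.card_four
    obtain ⟨x, y, m, hxo, hy, hXidx, hw, hm⟩ := taussky_struct n hn hX hidx
    exact class_of_struct n hn hX hxo hXidx hw hm

/-- **S0114** core. -/
theorem max_class_quot_center (n : ℕ) (hn : 3 ≤ n) (hX : Nat.card P = 2 ^ n)
    (hc : Group.nilpotencyClass P = n - 1) : Nonempty (P ⧸ center P ≃* DihedralGroup (2 ^ (n - 2))) := by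
  classical
  haveI hf2 : Fact (Nat.Prime 2) := ⟨Nat.prime_two⟩
  have hidx := index_of_max_class n hX hc hn
  obtain ⟨x, y, m, hxo, hy, hXidx, hw, hm⟩ := taussky_struct n hn hX (by rw [hidx]; norm_num)
  haveI hXn : (zpowers x).Normal := Subgroup.normal_of_index_eq_two hXidx
  have hXab : ∀ a ∈ zpowers x, ∀ b ∈ zpowers x, a * b = b * a := by
    intro a ha b hb
    obtain ⟨i, rfl⟩ := Subgroup.mem_zpowers_iff.mp ha
    obtain ⟨j, rfl⟩ := Subgroup.mem_zpowers_iff.mp hb
    exact (Commute.refl x).zpow_zpow i j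
  have hzpow1 : ∀ k : ℤ, x ^ k = 1 ↔ ((2 ^ (n - 1) : ℕ) : ℤ) ∣ k := by
    intro k
    rw [← hxo]
    exact orderOf_dvd_iff_zpow_eq_one.symm
  -- the commutator with `y`
  have hcomm : ∀ i : ℤ, ⁅x ^ i, y⁆ = x ^ (2 * m * i) := by
    intro i
    rw [comm_zpow_of_abelian _ hXn hXab y (Subgroup.mem_zpowers x) i, hw, ← zpow_mul]
  -- every element is `x ^ i` or `x ^ i * y`
  have hdec : ∀ g : P, g ∉ zpowers x → ∃ i : ℤ, g = x ^ i * y := by
    intro g hg
    have h1 : g * y⁻¹ ∈ zpowers x := by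
      rw [Subgroup.mul_mem_iff_of_index_two hXidx]
      constructor
      · intro h; exact absurd h hg
      · intro h; exact absurd ((zpowers x).inv_mem_iff.mp h) hy
    obtain ⟨i, hi⟩ := Subgroup.mem_zpowers_iff.mp h1
    exact ⟨i, by rw [hi]; group⟩
  -- centre is inside `⟨x⟩`
  have hmcop : IsCoprime m ((2 ^ (n - 1) : ℕ) : ℤ) := by
    rw [show (((2 ^ (n - 1) : ℕ) : ℤ)) = ((2 : ℕ) : ℤ) ^ (n - 1) by push_cast; ring]
    apply IsCoprime.pow_right
    rw [Int.isCoprime_iff_gcd_eq_one]
    exact Int.isCoprime_iff_gcd_eq_one.mp (by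
      obtain ⟨t, ht⟩ := hm
      exact ⟨1, -t, by rw [ht]; push_cast; ring⟩)
  have hxZ : ∀ k : ℤ, x ^ k ∈ center P ↔ ((2 ^ (n - 2) : ℕ) : ℤ) ∣ k := by
    intro k
    have e : ((2 ^ (n - 1) : ℕ) : ℤ) = 2 * ((2 ^ (n - 2) : ℕ) : ℤ) := by
      have : n - 1 = (n - 2) + 1 := by omega
      rw [this, pow_succ]
      push_cast
      ring
    have e2 : ∀ k : ℤ, (x ^ (2 * m * k) = 1 ↔ ((2 ^ (n - 2) : ℕ) : ℤ) ∣ k) := by
      intro k
      rw [hzpow1]
      constructor
      · intro h
        rw [e, show 2 * m * k = 2 * (m * k) by ring] at h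
        have h1 := (mul_dvd_mul_iff_left (by norm_num : (2 : ℤ) ≠ 0)).mp h
        have h2 : IsCoprime ((2 ^ (n - 2) : ℕ) : ℤ) m := by
          rw [show (((2 ^ (n - 2) : ℕ) : ℤ)) = ((2 : ℕ) : ℤ) ^ (n - 2) by push_cast; ring]
          apply IsCoprime.pow_left
          obtain ⟨t, ht⟩ := hm
          exact ⟨-t, 1, by rw [ht]; push_cast; ring⟩
        exact h2.dvd_of_dvd_mul_left h1
      · intro h
        rw [e, show 2 * m * k = 2 * (m * k) by ring]
        exact mul_dvd_mul_left _ (Dvd.dvd.mul_left h _)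
    constructor
    · intro h
      have h1 : ⁅x ^ k, y⁆ = 1 := by
        rw [commutatorElement_eq_one_iff_mul_comm]
        exact ((Subgroup.mem_center_iff.mp h) y).symm
      rw [hcomm] at h1
      exact (e2 k).mp h1
    · intro h
      have h1 : ⁅x ^ k, y⁆ = 1 := by
        rw [hcomm]
        exact (e2 k).mpr h
      have hcy : x ^ k * y = y * x ^ k := commutatorElement_eq_one_iff_mul_comm.mp h1
      rw [Subgroup.mem_center_iff]
      intro g
      by_cases hg : g ∈ zpowers x
      · exact hXab _ hg _ (Subgroup.zpow_mem _ (Subgroup.mem_zpowers x) k)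
      · obtain ⟨i, rfl⟩ := hdec g hg
        calc x ^ i * y * x ^ k = x ^ i * (y * x ^ k) := by group
          _ = x ^ i * (x ^ k * y) := by rw [hcy]
          _ = x ^ k * x ^ i * y := by
            rw [← mul_assoc, (Commute.refl x).zpow_zpow i k |>.eq]
          _ = x ^ k * (x ^ i * y) := by group
  have hZX : center P ≤ zpowers x := by
    intro z hz
    by_contra hzx
    -- if `z ∉ ⟨x⟩`, then `P` is abelian
    have h1 : commutator P ≤ ⊥ := by
      refine commutator_le_of_index_two _ hXidx hXab z hzx ⊥ ?_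
      intro a ha
      rw [Subgroup.mem_bot, commutatorElement_eq_one_iff_mul_comm]
      exact (Subgroup.mem_center_iff.mp hz a)
    have h2 : ⁅x, y⁆ ∈ commutator P := by
      rw [_root_.commutator_def]
      exact Subgroup.commutator_mem_commutator (Subgroup.mem_top _) (Subgroup.mem_top _)
    have h3 := h1 h2
    rw [Subgroup.mem_bot, hw, hzpow1] at h3
    have e : ((2 ^ (n - 1) : ℕ) : ℤ) = 2 * (2 * ((2 ^ (n - 3) : ℕ) : ℤ)) := by
      have : n - 1 = (n - 3) + 2 := by omega
      rw [this, pow_add]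
      push_cast
      ring
    rw [e] at h3
    have h4 := (mul_dvd_mul_iff_left (by norm_num : (2 : ℤ) ≠ 0)).mp h3
    have h5 : (2 : ℤ) ∣ m := dvd_trans (Dvd.intro _ rfl) h4
    rcases hm with ⟨t, ht⟩
    omega
  set π := QuotientGroup.mk' (center P) with hπ
  have hπker : ∀ g, π g = 1 ↔ g ∈ center P := by
    intro g
    rw [hπ, QuotientGroup.mk'_apply, QuotientGroup.eq_one_iff]
  have hao : orderOf (π x) = 2 ^ (n - 2) := by
    have hle : orderOf (π x) ∣ 2 ^ (n - 2) := by
      apply orderOf_dvd_of_pow_eq_one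
      rw [← map_pow, hπker, ← zpow_natCast]
      exact (hxZ _).mpr (dvd_refl _)
    apply Nat.dvd_antisymm hle
    have h1 : π x ^ (orderOf (π x)) = 1 := pow_orderOf_eq_one _
    rw [← map_pow, hπker, ← zpow_natCast, hxZ] at h1
    exact Int.natCast_dvd_natCast.mp h1
  -- `y²` is central
  have hy2X : y * y ∈ zpowers x := by
    rw [Subgroup.mul_mem_iff_of_index_two hXidx]
  have hyyx : ∀ a ∈ zpowers x, y * y * a = a * (y * y) := fun a ha => hXab _ hy2X _ ha
  have hy2Z : y * y ∈ center P := by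
    rw [Subgroup.mem_center_iff]
    intro g
    by_cases hg : g ∈ zpowers x
    · exact (hyyx g hg).symm
    · obtain ⟨i, rfl⟩ := hdec g hg
      calc x ^ i * y * (y * y) = x ^ i * (y * y) * y := by group
        _ = (y * y) * x ^ i * y := by
          rw [hyyx _ (Subgroup.zpow_mem _ (Subgroup.mem_zpowers x) i)]
        _ = _ := by group
  have hb2 : π y * π y = 1 := by
    rw [← map_mul, hπker]
    exact hy2Z
  -- conjugation of `x` by `y`
  have hconj : y * x * y⁻¹ = x ^ (1 - 2 * m) := by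
    have h1 : x * y * x⁻¹ * y⁻¹ = x ^ (2 * m) := by
      rw [← hw, commutatorElement_def]
    have h2 : y * x⁻¹ * y⁻¹ = x⁻¹ * x ^ (2 * m) := by
      rw [← h1]; group
    have h3 : y * x * y⁻¹ = (y * x⁻¹ * y⁻¹)⁻¹ := by group
    rw [h3, h2, mul_inv_rev, inv_inv, ← zpow_neg, ← zpow_add_one]
    congr 1
    ring
  have hconjk : ∀ k : ℤ, y * x ^ k * y⁻¹ = x ^ ((1 - 2 * m) * k) := by
    intro k
    have h1 : y * x ^ k * y⁻¹ = (y * x * y⁻¹) ^ k := by
      rw [conj_zpow]
    rw [h1, hconj, ← zpow_mul]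
  have hmod : ((2 ^ (n - 1) : ℕ) : ℤ) ∣ (1 - 2 * m) * (1 - 2 * m) - 1 := by
    rw [← hzpow1]
    have h1 : y * y * x * (y * y)⁻¹ = x := by
      have := hyyx x (Subgroup.mem_zpowers x)
      rw [this]; group
    have h2 : y * y * x * (y * y)⁻¹ = y * (y * x * y⁻¹) * y⁻¹ := by group
    rw [h2, hconj, hconjk] at h1
    rw [zpow_sub_one, h1]
    group
  have hm1 : ((2 ^ (n - 3) : ℕ) : ℤ) ∣ m - 1 := by
    have e : ((2 ^ (n - 1) : ℕ) : ℤ) = 4 * ((2 ^ (n - 3) : ℕ) : ℤ) := by
      have : n - 1 = (n - 3) + 2 := by omega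
      rw [this, pow_add]
      push_cast
      ring
    rw [e, show (1 - 2 * m) * (1 - 2 * m) - 1 = 4 * (m * (m - 1)) by ring] at hmod
    have h1 := (mul_dvd_mul_iff_left (by norm_num : (4 : ℤ) ≠ 0)).mp hmod
    have h2 : IsCoprime ((2 ^ (n - 3) : ℕ) : ℤ) m := by
      rw [show (((2 ^ (n - 3) : ℕ) : ℤ)) = ((2 : ℕ) : ℤ) ^ (n - 3) by push_cast; ring]
      apply IsCoprime.pow_left
      obtain ⟨t, ht⟩ := hm
      exact ⟨-t, 1, by rw [ht]; push_cast; ring⟩
    exact h2.dvd_of_dvd_mul_left h1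
  have hinv : π y * π x * π y = (π x)⁻¹ := by
    have hby : π y = (π y)⁻¹ := eq_inv_of_mul_eq_one_left hb2
    have h1 : y * x * y⁻¹ * x ∈ center P := by
      rw [hconj, ← zpow_add_one, hxZ]
      have e : ((2 ^ (n - 2) : ℕ) : ℤ) = 2 * ((2 ^ (n - 3) : ℕ) : ℤ) := by
        have : n - 2 = (n - 3) + 1 := by omega
        rw [this, pow_succ]
        push_cast
        ring
      rw [e, show 1 - 2 * m + 1 = 2 * (-(m - 1)) by ring]
      exact mul_dvd_mul_left _ ((dvd_neg).mpr hm1)
    have h2 := (hπker _).mpr h1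
    simp only [map_mul, map_inv] at h2
    rw [← hby] at h2
    exact eq_inv_of_mul_eq_one_left h2
  have hbnot : π y ∉ zpowers (π x) := by
    intro h
    obtain ⟨k, hk⟩ := Subgroup.mem_zpowers_iff.mp h
    have h1 : π ((x ^ k)⁻¹ * y) = 1 := by
      rw [map_mul, map_inv, map_zpow, hk, inv_mul_cancel]
    have h2 := hZX ((hπker _).mp h1)
    apply hy
    have h3 : y = x ^ k * ((x ^ k)⁻¹ * y) := by group
    rw [h3]
    exact (zpowers x).mul_mem (Subgroup.zpow_mem _ (Subgroup.mem_zpowers x) k) h2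
  have hgen : closure ({π y, π x} : Set (P ⧸ center P)) = ⊤ := by
    rw [Subgroup.eq_top_iff']
    intro q
    obtain ⟨g, rfl⟩ := QuotientGroup.mk'_surjective (center P) q
    have hxm : π x ∈ closure ({π y, π x} : Set (P ⧸ center P)) := Subgroup.subset_closure (by simp)
    have hym : π y ∈ closure ({π y, π x} : Set (P ⧸ center P)) := Subgroup.subset_closure (by simp)
    by_cases hg : g ∈ zpowers x
    · obtain ⟨i, rfl⟩ := Subgroup.mem_zpowers_iff.mp hg
      change π (x ^ i) ∈ _
      rw [map_zpow]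
      exact Subgroup.zpow_mem _ hxm i
    · obtain ⟨i, rfl⟩ := hdec g hg
      change π (x ^ i * y) ∈ _
      rw [map_mul, map_zpow]
      exact Subgroup.mul_mem _ (Subgroup.zpow_mem _ hxm i) hym
  obtain ⟨e⟩ := CfsgLib.Lead.nonempty_mulEquiv_dihedral_of_generators (π y) (π x) (2 ^ (n - 2)) hao hb2 hinv hbnot hgen
  exact ⟨e.symm⟩

end TwoGroup

end CfsgLib.OOL
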