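import Cfsg.Agent.Lib.OOL.PRank
import Cfsg.Agent.Lib.SS.UniqueP
import Cfsg.Agent.Lib.SS.FPF3
import Cfsg.Prelude.Def_LieExceptional

set_option autoImplicit false
set_option linter.unusedSectionVars false
set_option linter.style.haveILetI false
set_option linter.unusedVariables false

open Pointwise
open scoped commutatorElement IsMulCommutative
open Subgroup CfsgLib.Solv Cfsg

namespace CfsgLib.OOL

universe u

variable {G : Type u} [Group G] [Finite G]

theorem no_coprime_commute (h : ∀ g : G, IsPrimePow (orderOf g) ∨ g = 1) {x y : G} (hxy : Commute x y)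
    (hcop : (orderOf x).Coprime (orderOf y)) (hx : x ≠ 1) (hy : y ≠ 1) : False := by
  have hord := hxy.orderOf_mul_eq_mul_orderOf_of_coprime hcop
  have hx1 : orderOf x ≠ 1 := fun h1 => hx (orderOf_eq_one_iff.mp h1)
  have hy1 : orderOf y ≠ 1 := fun h1 => hy (orderOf_eq_one_iff.mp h1)
  rcases h (x * y) with hp | h1
  · rw [hord] at hp
    obtain ⟨ℓ, k, hℓ, hk, he⟩ := hp
    have hℓ' : ℓ.Prime := hℓ.nat_prime
    have h1 : orderOf x ∣ ℓ ^ k := he ▸ Dvd.intro _ rfl
    have h2 : orderOf y ∣ ℓ ^ k := he ▸ Dvd.intro_left _ rfl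
    obtain ⟨i, -, hi⟩ := (Nat.dvd_prime_pow hℓ').mp h1
    obtain ⟨j, -, hj⟩ := (Nat.dvd_prime_pow hℓ').mp h2
    have hi0 : i ≠ 0 := by
      rintro rfl
      rw [pow_zero] at hi
      exact hx1 hi
    have hj0 : j ≠ 0 := by
      rintro rfl
      rw [pow_zero] at hj
      exact hy1 hj
    have h3 : ℓ ∣ Nat.gcd (orderOf x) (orderOf y) :=
      Nat.dvd_gcd (hi ▸ dvd_pow_self ℓ hi0) (hj ▸ dvd_pow_self ℓ hj0)
    rw [hcop] at h3
    exact hℓ'.one_lt.ne' (Nat.dvd_one.mp h3)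
  · have : orderOf x * orderOf y = 1 := by rw [← hord, h1, orderOf_one]
    exact hx1 (Nat.eq_one_of_mul_eq_one_right this)

theorem exists_hall_two [Group.IsSolvable G] {q r : ℕ} (hq : q.Prime) (hr : r.Prime) (hqr : q ≠ r)
    (hqd : q ∣ Nat.card G) (hrd : r ∣ Nat.card G) :
    ∃ K : Subgroup G, q ∣ Nat.card K ∧ r ∣ Nat.card K ∧ ∀ l : ℕ, l.Prime → l ∣ Nat.card K → l = q ∨ l = r := by
  set n := Nat.card G with hn
  have hn0 : n ≠ 0 := Nat.card_pos.ne'
  set a := n.factorization q with ha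
  set b := n.factorization r with hb
  have hcopqr : (q ^ a).Coprime (r ^ b) := Nat.Coprime.pow _ _ ((Nat.coprime_primes hq hr).mpr hqr)
  have hmd : q ^ a * r ^ b ∣ n := Nat.Coprime.mul_dvd_of_dvd_of_dvd hcopqr (Nat.ordProj_dvd n q) (Nat.ordProj_dvd n r)
  obtain ⟨c, hc⟩ := hmd
  have hqc : ¬ q ∣ c := by
    intro h
    obtain ⟨c', rfl⟩ := h
    have h1 : q ^ (a + 1) ∣ n := ⟨r ^ b * c', by rw [hc, pow_succ]; ring⟩
    exact Nat.pow_succ_factorization_not_dvd hn0 hq h1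
  have hrc : ¬ r ∣ c := by
    intro h
    obtain ⟨c', rfl⟩ := h
    have h1 : r ^ (b + 1) ∣ n := ⟨q ^ a * c', by rw [hc, pow_succ]; ring⟩
    exact Nat.pow_succ_factorization_not_dvd hn0 hr h1
  have hcop : (q ^ a * r ^ b).Coprime c := by
    apply Nat.Coprime.mul_left
    · exact Nat.Coprime.pow_left _ ((Nat.Prime.coprime_iff_not_dvd hq).mpr hqc)
    · exact Nat.Coprime.pow_left _ ((Nat.Prime.coprime_iff_not_dvd hr).mpr hrc)
  obtain ⟨K, hKc, -⟩ := hall_containing _ G rfl (q ^ a * r ^ b) c hc hcop ⊥ (by simp)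
  have ha0 : a ≠ 0 := (hq.factorization_pos_of_dvd hn0 hqd).ne'
  have hb0 : b ≠ 0 := (hr.factorization_pos_of_dvd hn0 hrd).ne'
  refine ⟨K, ?_, ?_, ?_⟩
  · rw [hKc]; exact Dvd.dvd.mul_right (dvd_pow_self q ha0) _
  · rw [hKc]; exact Dvd.dvd.mul_left (dvd_pow_self r hb0) _
  · intro l hl hd
    rw [hKc] at hd
    rcases (Nat.Prime.dvd_mul hl).mp hd with h | h
    · left; exact (Nat.prime_dvd_prime_iff_eq hl hq).mp (hl.dvd_of_dvd_pow h)
    · right; exact (Nat.prime_dvd_prime_iff_eq hl hr).mp (hl.dvd_of_dvd_pow h)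

/-- S1475 -/
theorem primes_le_two [Group.IsSolvable G] (h : ∀ g : G, IsPrimePow (orderOf g) ∨ g = 1) :
    (Nat.card G).primeFactors.card ≤ 2 := by
  by_contra hgt
  push Not at hgt
  obtain ⟨a, ha, b, hb, c, hc, hab, hac, hbc⟩ := Finset.two_lt_card.mp hgt
  have hprime : ∀ l ∈ (Nat.card G).primeFactors, l.Prime ∧ l ∣ Nat.card G := fun l hl =>
    ⟨Nat.prime_of_mem_primeFactors hl, Nat.dvd_of_mem_primeFactors hl⟩
  haveI : Nontrivial G := by
    have h1 := (hprime a ha)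
    apply Finite.one_lt_card_iff_nontrivial.mp
    have := Nat.card_pos (α := G)
    have h2 : a ≤ Nat.card G := Nat.le_of_dvd this h1.2
    have := h1.1.one_lt
    omega
  obtain ⟨N, hNn, hN, hmin⟩ := exists_minimal_normal G
  haveI := hNn
  obtain ⟨hNc, t, ht, htN⟩ := minimal_normal_elementary N hN hmin
  obtain ⟨q, r, hq, hr, hqd, hrd, hqr, hqt, hrt⟩ : ∃ q r : ℕ, q.Prime ∧ r.Prime ∧ q ∣ Nat.card G ∧ r ∣ Nat.card G ∧
      q ≠ r ∧ q ≠ t ∧ r ≠ t := by
    by_cases hat : a = t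
    · exact ⟨b, c, (hprime b hb).1, (hprime c hc).1, (hprime b hb).2, (hprime c hc).2, hbc,
        fun e => hab (hat.trans e.symm), fun e => hac (hat.trans e.symm)⟩
    by_cases hbt : b = t
    · exact ⟨a, c, (hprime a ha).1, (hprime c hc).1, (hprime a ha).2, (hprime c hc).2, hac,
        hat, fun e => hbc (hbt.trans e.symm)⟩
    · exact ⟨a, b, (hprime a ha).1, (hprime b hb).1, (hprime a ha).2, (hprime b hb).2, hab, hat, hbt⟩
  obtain ⟨K, hKq, hKr, hKl⟩ := exists_hall_two hq hr hqr hqd hrd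
  have htK : ¬ t ∣ Nat.card K := by
    intro hd
    rcases hKl t ht hd with h1 | h1
    · exact hqt h1.symm
    · exact hrt h1.symm
  -- `K` acts without fixed points on `N`
  have hfpf : ∀ x ∈ K, x ≠ 1 → N ⊓ centralizer {x} = ⊥ := by
    intro x hx hx1
    rw [eq_bot_iff]
    rintro v ⟨hvN, hvC⟩
    by_contra hv
    have hv1 : v ≠ 1 := hv
    haveI : Fact t.Prime := ⟨ht⟩
    have hord : orderOf v = t := orderOf_eq_prime (htN v hvN) hv1
    have hcomm : Commute x v := (Subgroup.mem_centralizer_iff.mp hvC x rfl)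
    have hcop : (orderOf x).Coprime (orderOf v) := by
      rw [hord]
      apply Nat.Coprime.symm
      apply (Nat.Prime.coprime_iff_not_dvd ht).mpr
      intro hd
      exact htK (hd.trans (orderOf_mem_dvd hx))
    exact no_coprime_commute h hcomm hcop hx1 hv1
  have hNnorm : ∀ X : Subgroup G, X ≤ normalizer (N : Set G) := by
    intro X
    rw [Subgroup.normalizer_eq_top_iff.mpr hNn]
    exact le_top
  -- a minimal normal subgroup of `K`
  haveI : Nontrivial K := by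
    apply Finite.one_lt_card_iff_nontrivial.mp
    have h2 : q ≤ Nat.card K := Nat.le_of_dvd Nat.card_pos hKq
    have := hq.one_lt
    omega
  obtain ⟨Q₀, hQ₀n, hQ₀, hQ₀min⟩ := exists_minimal_normal K
  haveI := hQ₀n
  obtain ⟨hQ₀c, s, hs, hsQ⟩ := minimal_normal_elementary Q₀ hQ₀ hQ₀min
  set Q : Subgroup G := Q₀.map K.subtype with hQ
  have hQK : Q ≤ K := Subgroup.map_subtype_le _
  have hQne : Q ≠ ⊥ := by
    intro h0
    apply hQ₀
    rw [eq_bot_iff]
    intro x hx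
    have : (x : G) ∈ Q := ⟨x, hx, rfl⟩
    rw [h0, Subgroup.mem_bot] at this
    exact Subtype.ext this
  have hQc : IsMulCommutative Q := by
    refine ⟨⟨?_⟩⟩
    rintro ⟨_, a, ha, rfl⟩ ⟨_, b, hb, rfl⟩
    apply Subtype.ext
    show (a : G) * b = b * a
    have := congrArg Subtype.val (mul_comm (⟨a, ha⟩ : Q₀) ⟨b, hb⟩)
    exact congrArg Subtype.val this
  have hQexp : ∀ y ∈ Q, y ^ s = 1 := by
    rintro _ ⟨a, ha, rfl⟩
    have := hsQ a ha
    exact congrArg Subtype.val this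
  have hQcyc : IsCyclic Q := CfsgLib.SS.fpf_cyclic Q N hN (hNnorm Q) (fun y hy => hfpf y (hQK hy)) (Or.inl hQc)
  have hQcard : Nat.card Q = s := by
    obtain ⟨⟨g, hgQ⟩, hg⟩ := IsCyclic.exists_generator (α := Q)
    have h1 : orderOf (⟨g, hgQ⟩ : Q) = Nat.card Q := orderOf_eq_card_of_forall_mem_zpowers hg
    have h2 : Nat.card Q ∣ s := by
      rw [← h1]
      apply orderOf_dvd_of_pow_eq_one
      exact Subtype.ext (hQexp g hgQ)
    rcases (Nat.dvd_prime hs).mp h2 with h3 | h3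
    · exact absurd (Subgroup.card_eq_one.mp h3) hQne
    · exact h3
  have hsK : s ∣ Nat.card K := hQcard ▸ Subgroup.card_dvd_of_le hQK
  obtain ⟨s', hs', hs'd, hss'⟩ : ∃ s' : ℕ, s'.Prime ∧ s' ∣ Nat.card K ∧ s' ≠ s := by
    rcases hKl s hs hsK with h1 | h1
    · exact ⟨r, hr, hKr, fun e => hqr (h1.symm.trans e.symm)⟩
    · exact ⟨q, hq, hKq, fun e => hqr (e.trans h1)⟩
  haveI : Fact s'.Prime := ⟨hs'⟩
  obtain ⟨⟨x, hxK⟩, hx⟩ := exists_prime_orderOf_dvd_card' (G := K) s' hs'd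
  have hxord : orderOf x = s' := by rwa [Subgroup.orderOf_mk] at hx
  have hxN : x ∈ normalizer (Q : Set G) := by
    rw [Subgroup.mem_normalizer_iff]
    intro y
    constructor
    · rintro ⟨a, ha, rfl⟩
      exact ⟨(⟨x, hxK⟩ : K) * a * (⟨x, hxK⟩ : K)⁻¹, hQ₀n.conj_mem a ha _, rfl⟩
    · rintro ⟨a, ha, ha2⟩
      refine ⟨(⟨x, hxK⟩ : K)⁻¹ * a * (⟨x, hxK⟩ : K)⁻¹⁻¹, hQ₀n.conj_mem a ha _, ?_⟩
      have ha3 : (a : G) = x * y * x⁻¹ := ha2
      simp only [Subgroup.coe_subtype, Subgroup.coe_mul, InvMemClass.coe_inv, ha3]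
      group
  have hzn : zpowers x ≤ normalizer (Q : Set G) := (Subgroup.zpowers_le).mpr hxN
  have hcard := CfsgLib.SS.card_sup_of_le_normalizer (zpowers x) Q hzn
  have hcopD : (Nat.card (zpowers x)).Coprime (Nat.card Q) := by
    rw [Nat.card_zpowers, hxord, hQcard]
    exact (Nat.coprime_primes hs' hs).mpr hss'
  rw [Subgroup.inf_eq_bot_of_coprime hcopD, Subgroup.card_bot, mul_one, Nat.card_zpowers, hxord, hQcard] at hcard
  have hDK : zpowers x ⊔ Q ≤ K := sup_le ((Subgroup.zpowers_le).mpr hxK) hQK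
  have hDcyc : IsCyclic (zpowers x ⊔ Q : Subgroup G) :=
    CfsgLib.SS.fpf_cyclic _ N hN (hNnorm _) (fun y hy => hfpf y (hDK hy)) (Or.inr ⟨s', s, hs', hs, hcard⟩)
  obtain ⟨y, hy, hy1⟩ := (Subgroup.bot_or_exists_ne_one Q).resolve_left hQne
  have hxD : x ∈ zpowers x ⊔ Q := Subgroup.mem_sup_left (mem_zpowers x)
  have hyD : y ∈ zpowers x ⊔ Q := Subgroup.mem_sup_right hy
  have hcomm : Commute x y := by
    have := mul_comm (⟨x, hxD⟩ : (zpowers x ⊔ Q : Subgroup G)) ⟨y, hyD⟩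
    exact congrArg Subtype.val this
  haveI : Fact s.Prime := ⟨hs⟩
  have hyord : orderOf y = s := orderOf_eq_prime (hQexp y hy) hy1
  have hx1 : x ≠ 1 := by
    rintro rfl
    rw [orderOf_one] at hxord
    exact hs'.one_lt.ne hxord
  apply no_coprime_commute h hcomm _ hx1 hy1
  rw [hxord, hyord]
  exact (Nat.coprime_primes hs' hs).mpr hss'

/-- The Sylow part of a nilpotent subgroup. -/
theorem exists_nil_part (X : Subgroup G) (hX : Group.IsNilpotent X) (q : ℕ) [hq : Fact q.Prime] :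
    ∃ P : Subgroup G, P ≤ X ∧ IsPGroup q P ∧ (∀ y ∈ X, (∃ e, y ^ q ^ e = 1) → y ∈ P) ∧ (q ∣ Nat.card X → P ≠ ⊥) ∧
      (∀ a ∈ P, (∀ y ∈ P, a * y = y * a) → ∀ x ∈ X, a * x = x * a) ∧ (∀ x ∈ X, ∀ y ∈ P, x * y * x⁻¹ ∈ P) := by
  have hqq : q.Prime := hq.out
  let S : Sylow q X := default
  haveI hSn : (S : Subgroup X).Normal :=
    Sylow.normal_of_normalizerCondition Group.normalizerCondition_of_isNilpotent S
  set P : Subgroup G := (S : Subgroup X).map X.subtype with hP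
  have hPX : P ≤ X := Subgroup.map_subtype_le _
  have hPp : IsPGroup q P := S.isPGroup'.map X.subtype
  have hmem : ∀ y ∈ X, (∃ e, y ^ q ^ e = 1) → y ∈ P := by
    rintro y hy ⟨e, he⟩
    refine ⟨⟨y, hy⟩, ?_, rfl⟩
    set z : X ⧸ (S : Subgroup X) := ((⟨y, hy⟩ : X) : X ⧸ (S : Subgroup X)) with hz
    have h1 : z ^ q ^ e = 1 := by
      rw [hz, ← QuotientGroup.mk_pow]
      have : (⟨y, hy⟩ : X) ^ q ^ e = 1 := Subtype.ext he
      rw [this]; rfl
    have h2 : z ^ (S : Subgroup X).index = 1 := by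
      rw [Subgroup.index_eq_card]; exact pow_card_eq_one'
    have h3 : Nat.gcd (q ^ e) (S : Subgroup X).index = 1 :=
      Nat.Coprime.pow_left e ((Nat.Prime.coprime_iff_not_dvd hqq).mpr S.not_dvd_index)
    have h4 := Nat.dvd_gcd (orderOf_dvd_of_pow_eq_one h1) (orderOf_dvd_of_pow_eq_one h2)
    rw [h3] at h4
    have h5 : z = 1 := orderOf_eq_one_iff.mp (Nat.dvd_one.mp h4)
    exact (QuotientGroup.eq_one_iff _).mp h5
  refine ⟨P, hPX, hPp, hmem, ?_, ?_, ?_⟩
  · intro hd hb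
    have hS : (S : Subgroup X) = ⊥ := by
      rw [eq_bot_iff]
      intro x hx
      have : (x : G) ∈ P := ⟨x, hx, rfl⟩
      rw [hb, Subgroup.mem_bot] at this
      exact Subtype.ext this
    apply S.not_dvd_index
    rw [hS, Subgroup.index_bot]
    exact hd
  · intro a ha hac x hx
    obtain ⟨u, hu, v, hv, rfl, ⟨e, he⟩, hvc⟩ := CfsgLib.Trans.exists_prime_decomp x q hqq
    have huX : u ∈ X := (Subgroup.zpowers_le.mpr hx) hu
    have hvX : v ∈ X := (Subgroup.zpowers_le.mpr hx) hv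
    have huP := hmem u huX ⟨e, he⟩
    have h1 := hac u huP
    obtain ⟨k, hk⟩ := IsPGroup.iff_orderOf.mp hPp ⟨a, ha⟩
    have hk' : orderOf a = q ^ k := by rwa [Subgroup.orderOf_mk] at hk
    have hcop : (orderOf a).Coprime (orderOf v) := by
      rw [hk']; exact Nat.Coprime.pow_left k hvc.symm
    have h2 := CfsgLib.Trans.subgroup_commute_of_coprime hX (hPX ha) hvX hcop
    rw [← mul_assoc, h1, mul_assoc, h2, mul_assoc]
  · rintro x hx _ ⟨y, hy, rfl⟩
    exact ⟨(⟨x, hx⟩ : X) * y * (⟨x, hx⟩ : X)⁻¹, hSn.conj_mem y hy _, rfl⟩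

/-- A central element of a normal subgroup of a `p`-group which is central in the group. -/
theorem exists_central_in_pgroup {p : ℕ} [hp : Fact p.Prime] (U P : Subgroup G) (hU : IsPGroup p U) (hPU : P ≤ U)
    (hn : ∀ u ∈ U, ∀ y ∈ P, u * y * u⁻¹ ∈ P) (hP : P ≠ ⊥) :
    ∃ a ∈ P, a ≠ 1 ∧ (∀ y ∈ P, a * y = y * a) ∧ ∀ u ∈ U, a * u = u * a := by
  haveI hnil : Group.IsNilpotent U := hU.isNilpotent
  set X : Subgroup U := (P ⊓ centralizer (P : Set G)).subgroupOf U with hX
  haveI hXn : X.Normal := by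
    constructor
    rintro ⟨x, hxU⟩ hx ⟨g, hg⟩
    obtain ⟨hx1, hx2⟩ : x ∈ P ⊓ centralizer (P : Set G) := hx
    show g * x * g⁻¹ ∈ P ⊓ centralizer (P : Set G)
    refine ⟨hn g hg x hx1, Subgroup.mem_centralizer_iff.mpr ?_⟩
    intro y hy
    have hy' : g⁻¹ * y * g ∈ P := by
      have := hn g⁻¹ (U.inv_mem hg) y hy
      simpa using this
    have h1 := Subgroup.mem_centralizer_iff.mp hx2 _ hy'
    calc y * (g * x * g⁻¹) = g * ((g⁻¹ * y * g) * x) * g⁻¹ := by group
      _ = g * (x * (g⁻¹ * y * g)) * g⁻¹ := by rw [h1]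
      _ = g * x * g⁻¹ * y := by group
  have hXne : X ≠ ⊥ := by
    haveI : Nontrivial P := (Subgroup.nontrivial_iff_ne_bot P).mpr hP
    haveI : Nontrivial (center P) := (hU.to_le hPU).center_nontrivial
    obtain ⟨⟨z, hz⟩, hz1⟩ := exists_ne (1 : center P)
    have hzne : (z : G) ≠ 1 := by
      intro h
      apply hz1
      apply Subtype.ext
      apply Subtype.ext
      exact h
    intro hb
    have hzX : (⟨z, hPU z.2⟩ : U) ∈ X := by
      show (z : G) ∈ P ⊓ centralizer (P : Set G)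
      refine ⟨z.2, Subgroup.mem_centralizer_iff.mpr ?_⟩
      intro y hy
      have := Subgroup.mem_center_iff.mp hz ⟨y, hy⟩
      exact congrArg Subtype.val this
    rw [hb, Subgroup.mem_bot] at hzX
    exact hzne (congrArg Subtype.val hzX)
  have hinf := CfsgLib.Solv.normal_inf_center_ne_bot X hXne
  obtain ⟨a, ⟨ha1, ha2⟩, ha3⟩ := (Subgroup.bot_or_exists_ne_one _).resolve_left hinf
  obtain ⟨ha4, ha5⟩ : (a : G) ∈ P ⊓ centralizer (P : Set G) := ha1
  refine ⟨a, ha4, ?_, ?_, ?_⟩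
  · intro h
    exact ha3 (Subtype.ext h)
  · intro y hy
    exact (Subgroup.mem_centralizer_iff.mp ha5 y hy).symm
  · intro u hu
    have := Subgroup.mem_center_iff.mp ha2 ⟨u, hu⟩
    exact (congrArg Subtype.val this).symm

section CNMax

variable (hCN : IsCNGroup G) (H : Subgroup G) (hH : Group.IsNilpotent H)
  (hmax : ∀ L : Subgroup G, Group.IsNilpotent L → H ≤ L → L = H)

include hCN hmax in
theorem centralizer_eq_of_central {z : G} (hz1 : z ≠ 1) (hzc : ∀ y ∈ H, z * y = y * z) :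
    centralizer ({z} : Set G) = H := by
  apply hmax _ (hCN z hz1)
  intro y hy
  rw [Subgroup.mem_centralizer_iff]
  intro t ht
  rw [Set.mem_singleton_iff.mp ht]
  exact hzc y hy

include hCN hH hmax in
/-- first claim of S1477 -/
theorem max_nilp_hall : (Nat.card H).Coprime H.index := by
  apply Nat.coprime_of_dvd
  intro p hp hd1 hd2
  haveI hpf : Fact p.Prime := ⟨hp⟩
  obtain ⟨P, hPH, hPp, hPmem, hPne, hPc, hPn⟩ := exists_nil_part H hH p
  have hPne' := hPne hd1
  obtain ⟨T, hT⟩ := hPp.exists_le_sylow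
  have hPT : P ≠ T := by
    intro h
    have h1 : ¬ p ∣ (T : Subgroup G).index := T.not_dvd_index
    apply h1
    rw [← h]
    exact hd2.trans (Subgroup.index_dvd_of_le hPH)
  -- the normalizer grows
  have hTp : IsPGroup p (T : Subgroup G) := T.isPGroup'
  haveI hTnil : Group.IsNilpotent (T : Subgroup G) := hTp.isNilpotent
  have hlt : P.subgroupOf (T : Subgroup G) < ⊤ := by
    rw [lt_top_iff_ne_top]
    intro h
    apply hPT
    apply le_antisymm hT
    intro x hx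
    have : (⟨x, hx⟩ : (T : Subgroup G)) ∈ P.subgroupOf (T : Subgroup G) := by rw [h]; trivial
    exact this
  have hgrow := (Group.normalizerCondition_of_isNilpotent : NormalizerCondition (T : Subgroup G)) _ hlt
  obtain ⟨⟨y, hyT⟩, hy1, hy2⟩ := SetLike.exists_of_lt hgrow
  have hy2' : y ∉ P := hy2
  -- `U = T ∩ N(P)`
  set U : Subgroup G := (T : Subgroup G) ⊓ normalizer (P : Set G) with hU
  have hPU : P ≤ U := le_inf hT Subgroup.le_normalizer
  have hUp : IsPGroup p U := hTp.to_le inf_le_left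
  have hyU : y ∈ U := by
    refine ⟨hyT, Subgroup.mem_normalizer_iff.mpr ?_⟩
    intro z
    constructor
    · intro hz
      have hzT := hT hz
      have h1 := (Subgroup.mem_normalizer_iff.mp hy1 ⟨z, hzT⟩).mp hz
      exact h1
    · intro hz
      have hzT : z ∈ (T : Subgroup G) := by
        have h2 : y * z * y⁻¹ ∈ (T : Subgroup G) := hT hz
        have e : z = y⁻¹ * (y * z * y⁻¹) * y := by group
        rw [e]
        exact Subgroup.mul_mem _ (Subgroup.mul_mem _ (Subgroup.inv_mem _ hyT) h2) hyT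
      exact (Subgroup.mem_normalizer_iff.mp hy1 ⟨z, hzT⟩).mpr hz
  obtain ⟨a, haP, ha1, haPc, haU⟩ := exists_central_in_pgroup U P hUp hPU (fun u hu y' hy' =>
    (Subgroup.mem_normalizer_iff.mp hu.2 y').mp hy') hPne'
  have hCa := centralizer_eq_of_central hCN H hmax ha1 (hPc a haP haPc)
  have hyH : y ∈ H := by
    rw [← hCa, Subgroup.mem_centralizer_iff]
    intro t ht
    rw [Set.mem_singleton_iff.mp ht]
    exact haU y hyU
  obtain ⟨k, hk⟩ := IsPGroup.iff_orderOf.mp hUp ⟨y, hyU⟩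
  have hk' : orderOf y = p ^ k := by rwa [Subgroup.orderOf_mk] at hk
  exact hy2' (hPmem y hyH ⟨k, by rw [← hk', pow_orderOf_eq_one]⟩)

include hCN hmax in
/-- third claim of S1477 -/
theorem max_nilp_centralizer (hH' : Group.IsNilpotent H)
    (hti : ∀ g : G, H.map (MulAut.conj g).toMonoidHom ≠ H → H ⊓ H.map (MulAut.conj g).toMonoidHom = ⊥)
    (x : G) (hx : x ∈ H) (hx1 : x ≠ 1) : centralizer ({x} : Set G) ≤ H := by
  set C := centralizer ({x} : Set G) with hC
  have hCnil : Group.IsNilpotent C := hCN x hx1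
  have hCN' : ∀ y ∈ C, ∀ h ∈ H, y * h * y⁻¹ ∈ H ∧ y⁻¹ * h * y ∈ H := by
    intro y hy
    have hyx : y * x = x * y := (Subgroup.mem_centralizer_iff.mp hy x rfl).symm
    have hmap : H.map (MulAut.conj y).toMonoidHom = H := by
      by_contra hne
      have h1 := hti y hne
      have h2 : x ∈ H ⊓ H.map (MulAut.conj y).toMonoidHom := by
        refine ⟨hx, x, hx, ?_⟩
        show y * x * y⁻¹ = x
        rw [hyx]; group
      rw [h1, Subgroup.mem_bot] at h2
      exact hx1 h2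
    intro h hh
    constructor
    · have : y * h * y⁻¹ ∈ H.map (MulAut.conj y).toMonoidHom := ⟨h, hh, rfl⟩
      rwa [hmap] at this
    · have : h ∈ H.map (MulAut.conj y).toMonoidHom := by rw [hmap]; exact hh
      obtain ⟨h', hh', he⟩ := this
      have he' : y * h' * y⁻¹ = h := he
      have : y⁻¹ * h * y = h' := by rw [← he']; group
      rw [this]; exact hh'
  -- `W = Z(H)` as a normal subgroup of `C`
  set W : Subgroup C := (H ⊓ centralizer (H : Set G)).subgroupOf C with hW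
  haveI hWn : W.Normal := by
    constructor
    rintro ⟨z, hzC⟩ hz ⟨g, hg⟩
    obtain ⟨hz1, hz2⟩ : z ∈ H ⊓ centralizer (H : Set G) := hz
    show g * z * g⁻¹ ∈ H ⊓ centralizer (H : Set G)
    refine ⟨(hCN' g hg z hz1).1, Subgroup.mem_centralizer_iff.mpr ?_⟩
    intro h hh
    have h' := (hCN' g hg h hh).2
    have h1 := Subgroup.mem_centralizer_iff.mp hz2 _ h'
    calc h * (g * z * g⁻¹) = g * ((g⁻¹ * h * g) * z) * g⁻¹ := by group
      _ = g * (z * (g⁻¹ * h * g)) * g⁻¹ := by rw [h1]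
      _ = g * z * g⁻¹ * h := by group
  have hWne : W ≠ ⊥ := by
    haveI hne : Nontrivial H := ⟨⟨⟨x, hx⟩, 1, fun h => hx1 (congrArg Subtype.val h)⟩⟩
    have hz : center H ≠ ⊥ := by
      have h1 := CfsgLib.Solv.normal_inf_center_ne_bot (⊤ : Subgroup H) top_ne_bot
      rwa [top_inf_eq] at h1
    obtain ⟨⟨z, hzH⟩, hz1, hz2⟩ := (Subgroup.bot_or_exists_ne_one _).resolve_left hz
    have hzne : z ≠ 1 := fun h => hz2 (Subtype.ext h)
    have hzC : z ∈ C := by
      rw [hC, Subgroup.mem_centralizer_iff]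
      intro t ht
      rw [Set.mem_singleton_iff.mp ht]
      have := Subgroup.mem_center_iff.mp hz1 ⟨x, hx⟩
      exact congrArg Subtype.val this
    intro hb
    have hzW : (⟨z, hzC⟩ : C) ∈ W := by
      refine ⟨hzH, Subgroup.mem_centralizer_iff.mpr ?_⟩
      intro h hh
      have := Subgroup.mem_center_iff.mp hz1 ⟨h, hh⟩
      exact congrArg Subtype.val this
    rw [hb, Subgroup.mem_bot] at hzW
    exact hzne (congrArg Subtype.val hzW)
  have hinf := CfsgLib.Solv.normal_inf_center_ne_bot W hWne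
  obtain ⟨z₀, ⟨hz01, hz02⟩, hz03⟩ := (Subgroup.bot_or_exists_ne_one _).resolve_left hinf
  obtain ⟨hz04, hz05⟩ : (z₀ : G) ∈ H ⊓ centralizer (H : Set G) := hz01
  have hz0ne : (z₀ : G) ≠ 1 := fun h => hz03 (Subtype.ext h)
  have hCz := centralizer_eq_of_central hCN H hmax hz0ne (fun y hy => (Subgroup.mem_centralizer_iff.mp hz05 y hy).symm)
  intro y hy
  rw [← hCz, Subgroup.mem_centralizer_iff]
  intro t ht
  rw [Set.mem_singleton_iff.mp ht]
  have := Subgroup.mem_center_iff.mp hz02 ⟨y, hy⟩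
  exact (congrArg Subtype.val this).symm

include hCN hH hmax in
/-- second claim of S1477 -/
theorem max_nilp_ti (hnp : ¬ IsPrimePow (Nat.card H)) (h1 : Nat.card H ≠ 1) (g : G)
    (hg : H.map (MulAut.conj g).toMonoidHom ≠ H) : H ⊓ H.map (MulAut.conj g).toMonoidHom = ⊥ := by
  by_contra hne
  set Hg : Subgroup G := H.map (MulAut.conj g).toMonoidHom with hHg
  have hHgnil : Group.IsNilpotent Hg :=
    nilpotent_of_mulEquiv (H.equivMapOfInjective _ (MulAut.conj g).injective)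
  obtain ⟨x, ⟨hxH, hxG⟩, hx1⟩ := (Subgroup.bot_or_exists_ne_one _).resolve_left hne
  -- an element of prime order
  have hord1 : orderOf x ≠ 1 := fun h => hx1 (orderOf_eq_one_iff.mp h)
  obtain ⟨p, hp, hpd⟩ := Nat.exists_prime_and_dvd hord1
  haveI hpf : Fact p.Prime := ⟨hp⟩
  set x₀ := x ^ (orderOf x / p) with hx₀
  have hx₀ord : orderOf x₀ = p := orderOf_pow_orderOf_div (orderOf_pos x).ne' hpd
  have hx₀H : x₀ ∈ H := Subgroup.pow_mem _ hxH _
  have hx₀G : x₀ ∈ Hg := Subgroup.pow_mem _ hxG _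
  have hx₀1 : x₀ ≠ 1 := by
    intro h
    rw [h, orderOf_one] at hx₀ord
    exact hp.one_lt.ne hx₀ord
  -- another prime
  obtain ⟨q, hq, hqd, hqp⟩ : ∃ q : ℕ, q.Prime ∧ q ∣ Nat.card H ∧ q ≠ p := by
    by_contra hno
    push Not at hno
    have h2 := Nat.eq_prime_pow_of_unique_prime_dvd (Nat.card_pos (α := H)).ne' (fun {d} hd hd2 => hno d hd hd2)
    apply hnp
    rw [h2]
    refine ⟨p, _, hp.prime, ?_, rfl⟩
    rw [Nat.pos_iff_ne_zero]
    intro h0
    rw [h0, pow_zero] at h2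
    exact h1 h2
  haveI hqf : Fact q.Prime := ⟨hq⟩
  have hcopqp : q.Coprime p := (Nat.coprime_primes hq hp).mpr hqp
  obtain ⟨P, hPH, hPp, hPmem, hPne, hPc, hPn⟩ := exists_nil_part H hH q
  have hPne' := hPne hqd
  have hqel : ∀ {A : Subgroup G}, IsPGroup q A → ∀ y ∈ A, ∃ e, y ^ q ^ e = 1 ∧ orderOf y = q ^ e := by
    intro A hA y hy
    obtain ⟨k, hk⟩ := IsPGroup.iff_orderOf.mp hA ⟨y, hy⟩
    have hk' : orderOf y = q ^ k := by rwa [Subgroup.orderOf_mk] at hk
    exact ⟨k, by rw [← hk', pow_orderOf_eq_one], hk'⟩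
  set P' : Subgroup G := P.map (MulAut.conj g).toMonoidHom with hP'
  have hP'p : IsPGroup q P' := hPp.map _
  have hP'H : P' ≤ Hg := Subgroup.map_mono hPH
  -- both lie in the centralizer of `x₀`
  set C := centralizer ({x₀} : Set G) with hC
  have hCnil : Group.IsNilpotent C := hCN x₀ hx₀1
  have hPC : P ≤ C := by
    intro y hy
    rw [hC, Subgroup.mem_centralizer_iff]
    intro t ht
    rw [Set.mem_singleton_iff.mp ht]
    obtain ⟨e, -, he⟩ := hqel hPp y hy
    apply CfsgLib.Trans.subgroup_commute_of_coprime hH hx₀H (hPH hy)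
    rw [hx₀ord, he]
    exact Nat.Coprime.pow_right e hcopqp.symm
  have hP'C : P' ≤ C := by
    intro y hy
    rw [hC, Subgroup.mem_centralizer_iff]
    intro t ht
    rw [Set.mem_singleton_iff.mp ht]
    obtain ⟨e, -, he⟩ := hqel hP'p y hy
    apply CfsgLib.Trans.subgroup_commute_of_coprime hHgnil hx₀G (hP'H hy)
    rw [hx₀ord, he]
    exact Nat.Coprime.pow_right e hcopqp.symm
  obtain ⟨T, hTC, hTp, hTmem, -, hTc, -⟩ := exists_nil_part C hCnil q
  have hPT : P ≤ T := fun y hy => hTmem y (hPC hy) (by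
    obtain ⟨e, he, -⟩ := hqel hPp y hy
    exact ⟨e, he⟩)
  have hP'T : P' ≤ T := fun y hy => hTmem y (hP'C hy) (by
    obtain ⟨e, he, -⟩ := hqel hP'p y hy
    exact ⟨e, he⟩)
  -- central elements
  obtain ⟨a, haP, ha1, haPc, -⟩ := exists_central_in_pgroup P P hPp le_rfl
    (fun u hu y hy => P.mul_mem (P.mul_mem hu hy) (P.inv_mem hu)) hPne'
  have hCa := centralizer_eq_of_central hCN H hmax ha1 (hPc a haP haPc)
  have hTne : T ≠ ⊥ := by
    rintro rfl
    exact hPne' (le_bot_iff.mp hPT)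
  obtain ⟨b, hbT, hb1, hbTc, -⟩ := exists_central_in_pgroup T T hTp le_rfl
    (fun u hu y hy => T.mul_mem (T.mul_mem hu hy) (T.inv_mem hu)) hTne
  have hbH : b ∈ H := by
    rw [← hCa, Subgroup.mem_centralizer_iff]
    intro t ht
    rw [Set.mem_singleton_iff.mp ht]
    exact (hbTc a (hPT haP)).symm
  have hbP : b ∈ P := hPmem b hbH (by
    obtain ⟨e, he, -⟩ := hqel hTp b hbT
    exact ⟨e, he⟩)
  have hCb := centralizer_eq_of_central hCN H hmax hb1 (hPc b hbP (fun y hy => hbTc y (hPT hy)))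
  have hCH : C ≤ H := by
    intro y hy
    rw [← hCb, Subgroup.mem_centralizer_iff]
    intro t ht
    rw [Set.mem_singleton_iff.mp ht]
    exact hTc b hbT hbTc y hy
  have hTP : T ≤ P := fun y hy => hPmem y (hCH (hTC hy)) (by
    obtain ⟨e, he, -⟩ := hqel hTp y hy
    exact ⟨e, he⟩)
  have hP'eq : P' = P := Subgroup.eq_of_le_of_card_ge (hP'T.trans hTP) (by
    rw [hP', Subgroup.card_map_of_injective (MulAut.conj g).injective])
  -- conjugate of `a`
  have ha'P : g * a * g⁻¹ ∈ P := by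
    rw [← hP'eq]; exact ⟨a, haP, rfl⟩
  have ha'1 : g * a * g⁻¹ ≠ 1 := by
    intro h
    apply ha1
    have : a = g⁻¹ * (g * a * g⁻¹) * g := by group
    rw [this, h]; group
  have ha'c : ∀ y ∈ P, g * a * g⁻¹ * y = y * (g * a * g⁻¹) := by
    intro y hy
    have hy' : y ∈ P' := hP'eq ▸ hy
    obtain ⟨w, hw, rfl⟩ := hy'
    have h2 := haPc w hw
    show g * a * g⁻¹ * (g * w * g⁻¹) = (g * w * g⁻¹) * (g * a * g⁻¹)
    calc g * a * g⁻¹ * (g * w * g⁻¹) = g * (a * w) * g⁻¹ := by group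
      _ = g * (w * a) * g⁻¹ := by rw [h2]
      _ = _ := by group
  have hCa' := centralizer_eq_of_central hCN H hmax ha'1 (hPc _ ha'P ha'c)
  apply hg
  apply Subgroup.eq_of_le_of_card_ge
  · rintro _ ⟨w, hw, rfl⟩
    rw [← hCa', Subgroup.mem_centralizer_iff]
    intro t ht
    rw [Set.mem_singleton_iff.mp ht]
    show g * a * g⁻¹ * (g * w * g⁻¹) = (g * w * g⁻¹) * (g * a * g⁻¹)
    have h3 : w ∈ centralizer ({a} : Set G) := hCa ▸ hw
    have h2 : a * w = w * a := Subgroup.mem_centralizer_iff.mp h3 a rfl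
    calc g * a * g⁻¹ * (g * w * g⁻¹) = g * (a * w) * g⁻¹ := by group
      _ = g * (w * a) * g⁻¹ := by rw [h2]
      _ = _ := by group
  · rw [hHg, Subgroup.card_map_of_injective (MulAut.conj g).injective]

end CNMax

end CfsgLib.OOL
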