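import Cfsg.Agent.Lib.OOL.CN
import Cfsg.Agent.Lib.OOL.TypeP
import Cfsg.Agent.Lib.SS.FPF3
import Cfsg.Agent.Lib.Solv.Frob
import Cfsg.Agent.Lib.Solv.Nilp
import Cfsg.Agent.Lib.Trans.Ito

set_option autoImplicit false
set_option linter.unusedSectionVars false
set_option linter.style.haveILetI false
set_option linter.unusedVariables false

open Pointwise
open scoped commutatorElement IsMulCommutative
open Subgroup CfsgLib.Solv Cfsg

namespace CfsgLib.OOL

universe u

variable {G : Type u} [Group G] [Finite G]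

theorem orderOf_mem_coprime (H : Subgroup G) {z : G} (hz : z ∈ H) {n : ℕ} (h : n.Coprime (Nat.card H)) :
    n.Coprime (orderOf z) :=
  Nat.Coprime.coprime_dvd_right (Subgroup.orderOf_dvd_natCard H hz) h

theorem mem_cs {a b : G} (h : b * a = a * b) : a ∈ centralizer ({b} : Set G) := by
  rw [Subgroup.mem_centralizer_iff]
  intro y hy
  rw [Set.mem_singleton_iff] at hy
  rw [hy]; exact h

/-- In a CN-group, an element coprime to a nilpotent subgroup and commuting with one of its
non-identity elements centralizes the subgroup. -/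
theorem cn_centralizes_of_commute (hCN : IsCNGroup G) (H : Subgroup G) (hHnil : Group.IsNilpotent H)
    (e x : G) (hx : x ∈ H) (hx1 : x ≠ 1) (hex : e * x = x * e) (hcop : (orderOf e).Coprime (Nat.card H)) :
    ∀ h ∈ H, e * h = h * e := by
  classical
  have hHbot : H ≠ ⊥ := fun h => hx1 (by rw [h] at hx; simpa using hx)
  have hz : ∃ z ∈ H, z ≠ 1 ∧ ∀ h ∈ H, z * h = h * z := by
    haveI : Nontrivial H := (Subgroup.nontrivial_iff_ne_bot H).mpr hHbot
    have := normal_inf_center_ne_bot (G := H) ⊤ (by simp)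
    rw [top_inf_eq] at this
    obtain ⟨z, hz, hz1⟩ := (Subgroup.bot_or_exists_ne_one _).resolve_left this
    refine ⟨z.1, z.2, fun h => hz1 (Subtype.ext h), ?_⟩
    intro h hh
    have := (Subgroup.mem_center_iff.mp hz ⟨h, hh⟩)
    exact (congrArg Subtype.val this).symm
  obtain ⟨z, hzH, hz1, hzc⟩ := hz
  have hcopz := orderOf_mem_coprime H hzH hcop
  have hez : e * z = z * e :=
    CfsgLib.Trans.subgroup_commute_of_coprime (hCN x hx1)
      (mem_cs hex.symm) (mem_cs (hzc x hx).symm) hcopz
  intro h hh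
  have hcoph := orderOf_mem_coprime H hh hcop
  exact CfsgLib.Trans.subgroup_commute_of_coprime (hCN z hz1)
      (mem_cs hez.symm) (mem_cs (hzc h hh)) hcoph

/-- In a CN-group, the centralizer of the nontrivial `fittingHall` lies in `fittingHall`. -/
theorem cn_centralizer_fittingHall_le (hCN : IsCNGroup G) (hH : fittingHall G ≠ ⊥) :
    centralizer (fittingHall G : Set G) ≤ fittingHall G := by
  classical
  set H := fittingHall G with hHdef
  haveI hHnil : Group.IsNilpotent H := fittingHall_nilpotent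
  have hHcop : (Nat.card H).Coprime H.index := fittingHall_coprime
  obtain ⟨x₀, hx₀, hx₀1⟩ := (Subgroup.bot_or_exists_ne_one H).resolve_left hH
  set C := centralizer (H : Set G) with hC
  haveI hCn : C.Normal := Subgroup.normal_centralizer
  have hCnil : Group.IsNilpotent C := CfsgLib.SS.nilpotent_of_le_sub (by
    intro c hc
    exact mem_cs (Subgroup.mem_centralizer_iff.mp hc x₀ hx₀)) (hCN x₀ hx₀1)
  set N := H ⊔ C with hN
  haveI hNn : N.Normal := Subgroup.sup_normal H C
  have hNnil : Group.IsNilpotent N := by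
    have h1 : H ≤ fittingSubgroup G := le_fittingSubgroup' H hHnil
    have h2 : C ≤ fittingSubgroup G := le_fittingSubgroup' C hCnil
    exact CfsgLib.SS.nilpotent_of_le_sub (sup_le h1 h2) fitting_nilpotent
  have hNcop : (Nat.card N).Coprime N.index := by
    apply Nat.coprime_of_dvd
    intro q hq hq1 hq2
    have hqd : q ∣ Nat.card H * Nat.card C := hq1.trans (card_sup_dvd_mul H C)
    have hHN : H ≤ N := le_sup_left
    have hidx : N.index ∣ H.index := Subgroup.index_dvd_of_le hHN
    by_cases hqH : q ∣ Nat.card H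
    · exact Nat.Prime.not_coprime_iff_dvd.mpr ⟨q, hq, hqH, hq2.trans hidx⟩ hHcop
    have hqC : q ∣ Nat.card C := (hq.dvd_mul.mp hqd).resolve_left hqH
    haveI hqf : Fact q.Prime := ⟨hq⟩
    obtain ⟨⟨e, he⟩, heord⟩ := exists_prime_orderOf_dvd_card' q hqC
    have heord' : orderOf e = q := by
      rw [← heord, Subgroup.orderOf_mk]
    have he1 : e ≠ 1 := by
      intro h
      rw [h, orderOf_one] at heord'
      exact hq.one_lt.ne heord'
    -- a Sylow subgroup through e
    have hzp : IsPGroup q (zpowers e) := by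
      rw [IsPGroup.iff_card, Nat.card_zpowers, heord']
      exact ⟨1, (pow_one q).symm⟩
    obtain ⟨Q, hQ⟩ := hzp.exists_le_sylow
    have heQ : e ∈ (Q : Subgroup G) := hQ (mem_zpowers e)
    have hcopQ : ∀ y ∈ (Q : Subgroup G), (orderOf y).Coprime (Nat.card H) := by
      intro y hy
      have h1 : IsPGroup q (Q : Subgroup G) := Q.isPGroup'
      obtain ⟨k, hk⟩ := (IsPGroup.iff_orderOf.mp h1) ⟨y, hy⟩
      rw [Subgroup.orderOf_mk] at hk
      rw [hk]
      exact Nat.Coprime.pow_left k ((Nat.Prime.coprime_iff_not_dvd hq).mpr hqH)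
    have hQne : (Q : Subgroup G) ≠ ⊥ := fun h => he1 (by rw [h] at heQ; simpa using heQ)
    -- central element of `Q`
    have hz : ∃ z ∈ (Q : Subgroup G), z ≠ 1 ∧ ∀ y ∈ (Q : Subgroup G), z * y = y * z := by
      haveI hnil : Group.IsNilpotent (Q : Subgroup G) := Q.isPGroup'.isNilpotent
      haveI : Nontrivial (Q : Subgroup G) := (Subgroup.nontrivial_iff_ne_bot _).mpr hQne
      have := normal_inf_center_ne_bot (G := (Q : Subgroup G)) ⊤ (by simp)
      rw [top_inf_eq] at this
      obtain ⟨z, hz, hz1⟩ := (Subgroup.bot_or_exists_ne_one _).resolve_left this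
      refine ⟨z.1, z.2, fun h => hz1 (Subtype.ext h), ?_⟩
      intro h hh
      have := (Subgroup.mem_center_iff.mp hz ⟨h, hh⟩)
      exact (congrArg Subtype.val this).symm
    obtain ⟨z, hzQ, hz1, hzc⟩ := hz
    have hzH : ∀ h ∈ H, z * h = h * z := by
      intro h hh
      have h1 := Subgroup.mem_centralizer_iff.mp he h hh
      have h2 := hzc e heQ
      exact CfsgLib.Trans.subgroup_commute_of_coprime (hCN e he1)
        (mem_cs h2.symm) (mem_cs h1.symm) (orderOf_mem_coprime H hh (hcopQ z hzQ))
    have hQC : (Q : Subgroup G) ≤ C := by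
      intro y hy
      refine Subgroup.mem_centralizer_iff.mpr ?_
      intro h hh
      have h1 := hzc y hy
      have h2 := hzH h hh
      exact CfsgLib.Trans.subgroup_commute_of_coprime (hCN z hz1)
        (mem_cs h2) (mem_cs h1) (orderOf_mem_coprime H hh (hcopQ y hy)).symm
    have hQN : (Q : Subgroup G) ≤ N := hQC.trans le_sup_right
    have hidxQ : N.index ∣ (Q : Subgroup G).index := Subgroup.index_dvd_of_le hQN
    have hcQ := Q.card_coprime_index
    have hqQ : q ∣ Nat.card (Q : Subgroup G) := by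
      have := Subgroup.orderOf_dvd_natCard _ heQ
      rwa [heord'] at this
    exact Nat.Prime.not_coprime_iff_dvd.mpr ⟨q, hq, hqQ, hq2.trans hidxQ⟩ hcQ
  have hNH : N ≤ H := le_fittingHall N hNn hNnil hNcop
  exact le_sup_right.trans hNH

/-- S1474 core. -/
theorem cn_normal_sylow_frobenius (hCN : IsCNGroup G) (hnn : ¬ Group.IsNilpotent G) (p : ℕ) [Fact p.Prime] (P : Sylow p G)
    (hP1 : (P : Subgroup G) ≠ ⊥) (hPn : (P : Subgroup G).Normal) :
    fittingHall G ≠ ⊥ ∧ fittingHall G ≠ ⊤ ∧
      (∃ E : Subgroup G, Subgroup.IsComplement' (fittingHall G) E ∧ IsFrobeniusComplement E ∧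
        ∀ e ∈ E, e ≠ 1 → fittingHall G ⊓ Subgroup.centralizer ({e} : Set G) = ⊥) ∧
      Group.IsNilpotent (G ⧸ fittingHall G) := by
  classical
  set H := fittingHall G with hHdef
  haveI hHn : H.Normal := fittingHall_normal G
  haveI hHnil : Group.IsNilpotent H := fittingHall_nilpotent
  have hHcop : (Nat.card H).Coprime H.index := fittingHall_coprime
  have hPH : (P : Subgroup G) ≤ H := le_fittingHall _ hPn P.isPGroup'.isNilpotent P.card_coprime_index
  have hH1 : H ≠ ⊥ := fun h => hP1 (le_bot_iff.mp (h ▸ hPH))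
  have hHtop : H ≠ ⊤ := by
    intro h
    rw [h] at hHnil
    exact hnn (Group.nilpotent_of_mulEquiv Subgroup.topEquiv)
  obtain ⟨E, hE⟩ := Subgroup.exists_right_complement'_of_coprime hHcop
  have hcardE : Nat.card H * Nat.card E = Nat.card G := hE.card_mul_card
  have hidx : H.index = Nat.card E := hE.symm.index_eq_card
  have hEbot : E ≠ ⊥ := by
    intro h
    rw [h, Subgroup.card_bot, mul_one] at hcardE
    exact hHtop (Subgroup.eq_top_of_card_eq _ hcardE)
  have hdis : H ⊓ E = ⊥ := hE.disjoint.eq_bot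
  have hfpf : ∀ e ∈ E, e ≠ 1 → H ⊓ Subgroup.centralizer ({e} : Set G) = ⊥ := by
    intro e he he1
    rw [eq_bot_iff]
    rintro x ⟨hxH, hxC⟩
    by_contra hx1
    have hx1' : x ≠ 1 := fun h => hx1 (by rw [h]; exact one_mem _)
    have hex : e * x = x * e := (Subgroup.mem_centralizer_iff.mp hxC e rfl)
    have hc : (orderOf e).Coprime (Nat.card H) := by
      have hd : orderOf e ∣ Nat.card E := Subgroup.orderOf_dvd_natCard E he
      rw [← hidx] at hd
      exact (Nat.Coprime.coprime_dvd_right hd hHcop).symm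
    have h1 := cn_centralizes_of_commute hCN H hHnil e x hxH hx1' hex hc
    have h2 : e ∈ centralizer (H : Set G) := Subgroup.mem_centralizer_iff.mpr (fun h hh => (h1 h hh).symm)
    have h3 := cn_centralizer_fittingHall_le hCN hH1 h2
    have h4 : e ∈ H ⊓ E := ⟨h3, he⟩
    rw [hdis] at h4
    exact he1 (by simpa using h4)
  refine ⟨hH1, hHtop, ⟨E, hE, (frobenius_complement_iff H E hE hH1 hEbot).mpr hfpf, hfpf⟩, ?_⟩
  -- G/H ≅ E
  have hcent := CfsgLib.SS.frobenius_center_ne_bot H E hH1 hEbot hfpf
  obtain ⟨z, hz, hz1⟩ := (Subgroup.bot_or_exists_ne_one _).resolve_left hcent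
  have hz1' : (z : G) ≠ 1 := fun h => hz1 (Subtype.ext h)
  have hEnil : Group.IsNilpotent E := by
    apply CfsgLib.SS.nilpotent_of_le_sub _ (hCN z hz1')
    intro y hy
    rw [Subgroup.mem_centralizer_iff]
    intro w hw
    rw [Set.mem_singleton_iff] at hw
    subst hw
    have := Subgroup.mem_center_iff.mp hz ⟨y, hy⟩
    exact (congrArg Subtype.val this).symm
  have hsurj : Function.Surjective ((QuotientGroup.mk' H).comp E.subtype) := by
    intro q
    obtain ⟨g, rfl⟩ := QuotientGroup.mk'_surjective H q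
    obtain ⟨⟨h, e⟩, he, -⟩ := hE.existsUnique g
    refine ⟨e, ?_⟩
    show (QuotientGroup.mk' H) (e : G) = (QuotientGroup.mk' H) g
    have he' : (h : G) * e = g := he
    rw [← he', map_mul]
    have : QuotientGroup.mk' H (h : G) = 1 := (QuotientGroup.eq_one_iff _).mpr h.2
    rw [this, one_mul]
  exact Group.nilpotent_of_surjective _ hsurj

end CfsgLib.OOL
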