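import Cfsg.Agent.Lib.OOL.CN
import Cfsg.Agent.Lib.Solv.CoprimeSylow

set_option autoImplicit false
set_option linter.unusedSectionVars false
set_option linter.style.haveILetI false
set_option linter.unusedVariables false

open Pointwise
open scoped commutatorElement IsMulCommutative
open Subgroup CfsgLib.Solv Cfsg

namespace CfsgLib.OOL

universe u

variable {G : Type u} [Group G] [Finite G]

/-- A nontrivial solvable normal subgroup contains a nontrivial abelian normal `p`-subgroup. -/
theorem exists_abelian_pgroup_normal (H : Subgroup G) (hH : H.Normal) (hs : Group.IsSolvable H) (hne : H ≠ ⊥) :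
    ∃ (p : ℕ) (_ : p.Prime) (N : Subgroup G), N ≤ H ∧ N.Normal ∧ N ≠ ⊥ ∧ IsMulCommutative N ∧ IsPGroup p N := by
  classical
  obtain ⟨N, hN⟩ := (Set.toFinite {N : Subgroup G | N.Normal ∧ N ≠ ⊥ ∧ N ≤ H}).exists_minimal ⟨H, hH, hne, le_rfl⟩
  obtain ⟨hNn, hNne, hNH⟩ := hN.prop
  haveI := hNn
  have hmin : ∀ M : Subgroup G, M.Normal → M ≤ N → M = ⊥ ∨ M = N := by
    intro M hM hMN
    by_cases hM0 : M = ⊥
    · exact Or.inl hM0
    · exact Or.inr (le_antisymm hMN (hN.le_of_le (y := M) ⟨hM, hM0, hMN.trans hNH⟩ hMN))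
  have hNs : Group.IsSolvable N := by
    have f : N →* H := Subgroup.inclusion hNH
    exact solvable_of_solvable_injective (f := Subgroup.inclusion hNH) (Subgroup.inclusion_injective hNH)
  have hcomm : ⁅N, N⁆ = ⊥ := by
    refine (hmin ⁅N, N⁆ inferInstance (commutator_self_le N)).resolve_right ?_
    intro h
    exact hNne (eq_bot_of_perfect_solvable N hNs h.ge)
  have hab : ∀ a ∈ N, ∀ b ∈ N, a * b = b * a := by
    intro a ha b hb
    have := Subgroup.commutator_mem_commutator ha hb
    rw [hcomm, Subgroup.mem_bot] at this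
    simpa [commutatorElement_eq_one_iff_mul_comm] using this
  have hcard : Nat.card N ≠ 1 := fun h => hNne (Subgroup.card_eq_one.1 h)
  obtain ⟨p, hp, hpd⟩ := Nat.exists_prime_and_dvd hcard
  haveI := Fact.mk hp
  let B : Subgroup G :=
    { carrier := {x | x ∈ N ∧ x ^ p = 1}
      mul_mem' := by
        rintro a b ⟨ha, ha'⟩ ⟨hb, hb'⟩
        refine ⟨N.mul_mem ha hb, ?_⟩
        rw [(show Commute a b from hab a ha b hb).mul_pow, ha', hb', one_mul]
      one_mem' := ⟨N.one_mem, one_pow p⟩
      inv_mem' := by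
        rintro a ⟨ha, ha'⟩
        exact ⟨N.inv_mem ha, by rw [inv_pow, ha', inv_one]⟩ }
  have hBN : B ≤ N := fun x hx => hx.1
  have hBnormal : B.Normal := by
    refine ⟨fun x hx g => ⟨hNn.conj_mem x hx.1 g, ?_⟩⟩
    rw [conj_pow, hx.2, mul_one, mul_inv_cancel]
  have hBne : B ≠ ⊥ := by
    obtain ⟨x, hx⟩ := exists_prime_orderOf_dvd_card' p hpd
    intro hB
    have hx1 : (x : G) ∈ B := by
      refine ⟨x.2, ?_⟩
      have : x ^ p = 1 := by rw [← hx]; exact pow_orderOf_eq_one x
      simpa using congrArg (Subtype.val) this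
    rw [hB, Subgroup.mem_bot] at hx1
    have : x = 1 := Subtype.ext hx1
    rw [this, orderOf_one] at hx
    exact hp.one_lt.ne hx
  have hBeq : B = N := (hmin B hBnormal hBN).resolve_left hBne
  have hNcomm : IsMulCommutative N := ⟨⟨fun a b => Subtype.ext (hab _ a.2 _ b.2)⟩⟩
  have hNp : IsPGroup p N := by
    intro x
    refine ⟨1, Subtype.ext ?_⟩
    have hx : (x : G) ∈ B := by rw [hBeq]; exact x.2
    simpa using hx.2
  exact ⟨p, hp, N, hNH, hNn, hNne, hNcomm, hNp⟩

theorem IsCNGroup.of_equiv {H : Type*} [Group H] (e : G ≃* H) (h : IsCNGroup G) : IsCNGroup H := by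
  intro g hg
  have hg' : e.symm g ≠ 1 := by
    intro h1
    apply hg
    have := congrArg e h1
    simpa using this
  have hn := h _ hg'
  have hmap : (centralizer ({e.symm g} : Set G)).map e.toMonoidHom = centralizer ({g} : Set H) := by
    ext y
    constructor
    · rintro ⟨x, hx, rfl⟩
      rw [Subgroup.mem_centralizer_iff]
      intro t ht
      rw [Set.mem_singleton_iff.mp ht]
      have h1 := Subgroup.mem_centralizer_iff.mp hx (e.symm g) rfl
      have h2 := congrArg e h1
      simpa using h2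
    · intro hy
      refine ⟨e.symm y, Subgroup.mem_centralizer_iff.mpr ?_, by simp⟩
      intro t ht
      rw [Set.mem_singleton_iff.mp ht]
      have h1 := Subgroup.mem_centralizer_iff.mp hy g rfl
      have h2 := congrArg e.symm h1
      simpa using h2
  rw [← hmap]
  exact Group.nilpotent_of_mulEquiv ((centralizer ({e.symm g} : Set G)).equivMapOfInjective e.toMonoidHom e.injective)

theorem mem_normalizer_of_conj_le {K : Subgroup G} {x : G} (h : ∀ k ∈ K, x * k * x⁻¹ ∈ K) : x ∈ normalizer (K : Set G) := by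
  classical
  have hmap : K.map (MulAut.conj x).toMonoidHom = K :=
    Subgroup.eq_of_le_of_card_ge (by
      rintro _ ⟨k, hk, rfl⟩
      exact h k hk) (by rw [Subgroup.card_map_of_injective (MulAut.conj x).injective])
  rw [Subgroup.mem_normalizer_iff]
  intro k
  refine ⟨h k, fun hk => ?_⟩
  have : x * k * x⁻¹ ∈ K.map (MulAut.conj x).toMonoidHom := by rw [hmap]; exact hk
  obtain ⟨k', hk', he⟩ := this
  have he' : x * k' * x⁻¹ = x * k * x⁻¹ := he
  have : k' = k := by
    have h1 := mul_right_cancel he'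
    exact mul_left_cancel h1
  rwa [← this]

/-- Conjugacy of subgroups of Sylow order inside a subgroup. -/
theorem sylow_conj_in (L A B : Subgroup G) (hAL : A ≤ L) (hBL : B ≤ L) (r : ℕ) [hr : Fact r.Prime] (a m : ℕ)
    (hA : Nat.card A = r ^ a) (hB : Nat.card B = r ^ a) (hL : Nat.card L = r ^ a * m) (hm : ¬ r ∣ m) :
    ∃ l ∈ L, B = A.map (MulAut.conj l).toMonoidHom := by
  have hfac : (Nat.card L).factorization r = a := by
    have hm0 : m ≠ 0 := by
      rintro rfl
      exact hm (dvd_zero r)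
    rw [hL, Nat.factorization_mul (pow_ne_zero _ hr.out.ne_zero) hm0, Finsupp.add_apply,
      Nat.Prime.factorization_pow hr.out, Finsupp.single_eq_same, Nat.factorization_eq_zero_of_not_dvd hm, add_zero]
  let SA : Sylow r L := Sylow.ofCard (A.subgroupOf L) (by rw [card_subgroupOf_of_le hAL, hA, hfac])
  let SB : Sylow r L := Sylow.ofCard (B.subgroupOf L) (by rw [card_subgroupOf_of_le hBL, hB, hfac])
  obtain ⟨g, hg⟩ := MulAction.exists_smul_eq L SA SB
  have hg' : MulAut.conj g • (A.subgroupOf L) = B.subgroupOf L := by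
    have := congrArg (fun S : Sylow r L => (S : Subgroup L)) hg
    exact this
  refine ⟨g, g.2, ?_⟩
  apply le_antisymm
  · intro b hb
    have hb' : (⟨b, hBL hb⟩ : L) ∈ B.subgroupOf L := hb
    rw [← hg'] at hb'
    obtain ⟨⟨a', ha'⟩, ha2, ha3⟩ := hb'
    exact ⟨a', ha2, congrArg Subtype.val ha3⟩
  · rintro _ ⟨a', ha', rfl⟩
    have h1 : (⟨a', hAL ha'⟩ : L) ∈ A.subgroupOf L := ha'
    have h2 : MulAut.conj g • (⟨a', hAL ha'⟩ : L) ∈ MulAut.conj g • A.subgroupOf L :=
      Subgroup.smul_mem_pointwise_smul _ _ _ h1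
    rw [hg'] at h2
    exact h2

section Step

variable (N : Subgroup G) [hNn : N.Normal] (p : ℕ) [hpf : Fact p.Prime] (hNp : IsPGroup p N)

include hNp in
/-- coprime case -/
theorem centralizer_le_map_coprime (r : ℕ) [hrf : Fact r.Prime] (hrp : r ≠ p) (y : G) (e : ℕ) (hye : y ^ r ^ e = 1)
    (hy1 : (QuotientGroup.mk' N y) ≠ 1) (hyr : (QuotientGroup.mk' N y) ^ r = 1) :
    centralizer ({QuotientGroup.mk' N y} : Set (G ⧸ N)) ≤ (centralizer ({y} : Set G)).map (QuotientGroup.mk' N) := by
  have hr : r.Prime := hrf.out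
  set π := QuotientGroup.mk' N with hπ
  intro tbar ht
  obtain ⟨t, rfl⟩ := QuotientGroup.mk'_surjective N tbar
  -- `y` has order `r`
  have hcopNr : (Nat.card N).Coprime r := by
    obtain ⟨k, hk⟩ := IsPGroup.iff_card.mp hNp
    rw [hk]
    exact Nat.Coprime.pow_left k ((Nat.coprime_primes hpf.out hr).mpr hrp.symm)
  have hyrN : y ^ r ∈ N := by
    rw [← QuotientGroup.eq_one_iff (y ^ r)]
    have : π (y ^ r) = 1 := by rw [map_pow]; exact hyr
    exact this
  have hordN : ∀ n ∈ N, (orderOf n).Coprime r := fun n hn =>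
    Nat.Coprime.coprime_dvd_left (orderOf_mem_dvd hn) hcopNr
  have hyr1 : y ^ r = 1 := by
    by_contra hne
    have h1 : orderOf (y ^ r) ∣ r ^ e := by
      apply orderOf_dvd_of_pow_eq_one
      rw [← pow_mul, mul_comm, pow_mul, hye, one_pow]
    have h2 := hordN _ hyrN
    have h3 : orderOf (y ^ r) ∣ Nat.gcd (orderOf (y ^ r)) (r ^ e) := Nat.dvd_gcd dvd_rfl h1
    have h4 : Nat.gcd (orderOf (y ^ r)) (r ^ e) = 1 := Nat.Coprime.pow_right e h2
    rw [h4] at h3
    exact hne (orderOf_eq_one_iff.mp (Nat.dvd_one.mp h3))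
  have hy1' : y ≠ 1 := by
    rintro rfl
    exact hy1 (map_one _)
  have hyord : orderOf y = r := orderOf_eq_prime hyr1 hy1'
  -- the conjugate
  have htc : π t * π y = π y * π t :=
    (Subgroup.mem_centralizer_iff.mp ht (π y) rfl).symm
  set y₁ := t * y * t⁻¹ with hy₁
  have hπy₁ : π y₁ = π y := by
    rw [hy₁, map_mul, map_mul, map_inv, htc]; group
  have hn : y⁻¹ * y₁ ∈ N := by
    rw [← QuotientGroup.eq_one_iff (y⁻¹ * y₁)]
    have : π (y⁻¹ * y₁) = 1 := by rw [map_mul, map_inv, hπy₁]; group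
    exact this
  set A : Subgroup G := N ⊔ zpowers y with hA
  have hcardA : Nat.card A = r ^ 1 * Nat.card N := by
    have h1 := CfsgLib.SS.card_sup_of_le_normalizer (zpowers y) N (by
      rw [Subgroup.normalizer_eq_top_iff.mpr hNn]; exact le_top)
    have hcop : (Nat.card (zpowers y)).Coprime (Nat.card N) := by
      rw [Nat.card_zpowers, hyord]; exact hcopNr.symm
    rw [Subgroup.inf_eq_bot_of_coprime hcop, Subgroup.card_bot, mul_one, Nat.card_zpowers, hyord, sup_comm] at h1
    rw [pow_one]; exact h1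
  have hS₁ : zpowers y ≤ A := le_sup_right
  have hy₁A : y₁ ∈ A := by
    have e1 : y₁ = y * (y⁻¹ * y₁) := by group
    rw [e1]
    exact A.mul_mem (Subgroup.mem_sup_right (mem_zpowers y)) (Subgroup.mem_sup_left hn)
  have hS₂ : zpowers y₁ ≤ A := (Subgroup.zpowers_le).mpr hy₁A
  have hy₁ord : orderOf y₁ = r := by
    rw [hy₁, ← hyord]
    exact orderOf_injective (MulAut.conj t).toMonoidHom (MulAut.conj t).injective y
  obtain ⟨l, hl, hlB⟩ := sylow_conj_in A (zpowers y) (zpowers y₁) hS₁ hS₂ r 1 (Nat.card N)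
    (by rw [Nat.card_zpowers, hyord, pow_one]) (by rw [Nat.card_zpowers, hy₁ord, pow_one]) hcardA (by
      intro hd
      have h2 := Nat.dvd_gcd hd (dvd_refl r)
      have h5 : Nat.gcd (Nat.card N) r = 1 := hcopNr
      rw [h5] at h2
      exact hr.one_lt.ne' (Nat.dvd_one.mp h2))
  have hl' : l ∈ ((N ⊔ zpowers y : Subgroup G) : Set G) := hl
  rw [Subgroup.normal_mul] at hl'
  obtain ⟨n', hn', w, hw, rfl⟩ := hl'
  -- `y₁` is in the conjugate
  have hy₁mem : y₁ ∈ (zpowers y).map (MulAut.conj (n' * w)).toMonoidHom := by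
    rw [← hlB]; exact mem_zpowers y₁
  obtain ⟨z, hz, hze⟩ := hy₁mem
  have hze' : (n' * w) * z * (n' * w)⁻¹ = y₁ := hze
  have hwz : w * z * w⁻¹ = z := by
    have h1 : z * w = w * z := by
      obtain ⟨i, rfl⟩ := Subgroup.mem_zpowers_iff.mp hz
      obtain ⟨j, rfl⟩ := Subgroup.mem_zpowers_iff.mp hw
      show y ^ i * y ^ j = y ^ j * y ^ i
      rw [← zpow_add, ← zpow_add, add_comm]
    rw [← h1]; group
  have hs : n'⁻¹ * y₁ * n' = z := by
    rw [← hze']
    have : (n' * w) * z * (n' * w)⁻¹ = n' * (w * z * w⁻¹) * n'⁻¹ := by group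
    rw [this, hwz]; group
  -- `s = n'⁻¹ t` centralizes `y`
  set s := n'⁻¹ * t with hsdef
  have hsy : s * y * s⁻¹ = z := by
    rw [← hs, hy₁, hsdef]; group
  have hπs : π s = π t := by
    rw [hsdef, map_mul, map_inv]
    have : π n' = 1 := (QuotientGroup.eq_one_iff n').mpr hn'
    rw [this]; group
  have hπz : π z = π y := by
    rw [← hsy, map_mul, map_mul, map_inv, hπs, htc]; group
  have hzy : z = y := by
    have h1 : z * y⁻¹ ∈ N := by
      rw [← QuotientGroup.eq_one_iff (z * y⁻¹)]
      have : π (z * y⁻¹) = 1 := by rw [map_mul, map_inv, hπz]; group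
      exact this
    have h2 : z * y⁻¹ ∈ zpowers y := Subgroup.mul_mem _ hz (Subgroup.inv_mem _ (mem_zpowers y))
    have h3 : (orderOf (z * y⁻¹)) ∣ r := by
      have := orderOf_dvd_natCard (⟨z * y⁻¹, h2⟩ : zpowers y)
      rw [Subgroup.orderOf_mk, Nat.card_zpowers, hyord] at this
      exact this
    have h4 := Nat.dvd_gcd (orderOf_mem_dvd h1) h3
    have h5 : Nat.gcd (Nat.card N) r = 1 := hcopNr
    rw [h5] at h4
    have h6 := orderOf_eq_one_iff.mp (Nat.dvd_one.mp h4)
    exact mul_inv_eq_one.mp h6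
  refine ⟨s, Subgroup.mem_centralizer_iff.mpr ?_, hπs⟩
  intro v hv
  rw [Set.mem_singleton_iff.mp hv]
  rw [hzy] at hsy
  exact (mul_inv_eq_iff_eq_mul.mp hsy).symm

variable (hCN : IsCNGroup G) (hNc : IsMulCommutative N) (hNne : N ≠ ⊥)

include hNp hCN hNc hNne in
/-- `p`-case: the preimage of the centralizer is nilpotent. -/
theorem preimage_nilpotent (y : G) (e : ℕ) (hye : y ^ p ^ e = 1) (hy1 : QuotientGroup.mk' N y ≠ 1) :
    Group.IsNilpotent ((centralizer ({QuotientGroup.mk' N y} : Set (G ⧸ N))).comap (QuotientGroup.mk' N)) := by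
  have hpp : p.Prime := hpf.out
  set π := QuotientGroup.mk' N with hπ
  set T : Subgroup G := (centralizer ({π y} : Set (G ⧸ N))).comap π with hT
  have hNT : N ≤ T := by
    intro n hn
    show π n ∈ centralizer ({π y} : Set (G ⧸ N))
    have : π n = 1 := (QuotientGroup.eq_one_iff n).mpr hn
    rw [this]; exact Subgroup.one_mem _
  have hTy : ∀ t ∈ T, t * y * t⁻¹ * y⁻¹ ∈ N := by
    intro t ht
    rw [← QuotientGroup.eq_one_iff (t * y * t⁻¹ * y⁻¹)]
    have h1 : π t * π y = π y * π t :=
      (Subgroup.mem_centralizer_iff.mp (show π t ∈ centralizer ({π y} : Set (G ⧸ N)) from ht) (π y) rfl).symm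
    have : π (t * y * t⁻¹ * y⁻¹) = 1 := by
      rw [map_mul, map_mul, map_mul, map_inv, map_inv, h1]; group
    exact this
  -- `R = N ⟨y⟩`
  set R : Subgroup G := zpowers y ⊔ N with hR
  have hzp : IsPGroup p (zpowers y) := by
    rintro ⟨z, hz⟩
    obtain ⟨i, rfl⟩ := Subgroup.mem_zpowers_iff.mp hz
    refine ⟨e, Subtype.ext ?_⟩
    show (y ^ i) ^ p ^ e = 1
    rw [← zpow_natCast, ← zpow_mul, mul_comm, zpow_mul, zpow_natCast, hye, one_zpow]
  have hNnorm : ∀ X : Subgroup G, X ≤ normalizer (N : Set G) := by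
    intro X
    rw [Subgroup.normalizer_eq_top_iff.mpr hNn]
    exact le_top
  have hRp : IsPGroup p R := IsPGroup.to_sup_of_normal_right' hzp hNp (hNnorm _)
  have hNR : N ≤ R := le_sup_right
  have hyR : y ∈ R := Subgroup.mem_sup_left (mem_zpowers y)
  have hNcomm : ∀ a ∈ N, ∀ b ∈ N, a * b = b * a := by
    intro a ha b hb
    exact congrArg Subtype.val (mul_comm (⟨a, ha⟩ : N) ⟨b, hb⟩)
  have hRnorm : T ≤ normalizer (R : Set G) := by
    intro t ht
    apply mem_normalizer_of_conj_le
    have hle : R ≤ R.comap (MulAut.conj t).toMonoidHom := by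
      apply sup_le
      · rw [Subgroup.zpowers_le]
        show t * y * t⁻¹ ∈ R
        have e1 : t * y * t⁻¹ = (t * y * t⁻¹ * y⁻¹) * y := by group
        rw [e1]
        exact R.mul_mem (hNR (hTy t ht)) hyR
      · intro n hn
        exact hNR (hNn.conj_mem n hn t)
    intro k hk
    exact hle hk
  have hRT : R ≤ T := by
    apply sup_le _ hNT
    rw [Subgroup.zpowers_le]
    show π y ∈ centralizer ({π y} : Set (G ⧸ N))
    rw [Subgroup.mem_centralizer_iff]
    intro t ht
    rw [Set.mem_singleton_iff.mp ht]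
  -- `p'`-elements of `T` centralize `N`
  have hkey : ∀ w ∈ T, (orderOf w).Coprime p → ∀ n ∈ N, w * n = n * w := by
    intro w hwT hwc
    by_cases hex : ∃ e' ∈ N, e' ≠ 1 ∧ w * e' = e' * w
    · obtain ⟨e', he', he'1, hwe⟩ := hex
      have hCnil := hCN e' he'1
      intro n hn
      have hwC : w ∈ centralizer ({e'} : Set G) := by
        rw [Subgroup.mem_centralizer_iff]
        intro t ht
        rw [Set.mem_singleton_iff.mp ht]
        exact hwe.symm
      have hnC : n ∈ centralizer ({e'} : Set G) := by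
        rw [Subgroup.mem_centralizer_iff]
        intro t ht
        rw [Set.mem_singleton_iff.mp ht]
        exact hNcomm e' he' n hn
      obtain ⟨k, hk⟩ := IsPGroup.iff_orderOf.mp hNp ⟨n, hn⟩
      have hk' : orderOf n = p ^ k := by rwa [Subgroup.orderOf_mk] at hk
      apply CfsgLib.Trans.subgroup_commute_of_coprime hCnil hwC hnC
      rw [hk']
      exact Nat.Coprime.pow_right k hwc
    · exfalso
      apply hex
      -- find a fixed element in the coset `y N`
      have hzT : zpowers w ≤ T := (Subgroup.zpowers_le).mpr hwT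
      have hcop : (Nat.card (zpowers w)).Coprime (Nat.card R) := by
        rw [Nat.card_zpowers]
        obtain ⟨k, hk⟩ := IsPGroup.iff_card.mp hRp
        rw [hk]
        exact Nat.Coprime.pow_right k hwc
      have hsolv : Group.IsSolvable (zpowers w) := inferInstance
      obtain ⟨c, ⟨hcR, hcC⟩, hcN⟩ := coprime_fixed_coset (zpowers w) R (hzT.trans hRnorm) hcop (Or.inl hsolv) N hNR
        (by
          rw [Subgroup.normalizer_eq_top_iff.mpr hNn]; exact le_top) (hNnorm _) y hyR
        (fun a ha => hTy a (hzT ha))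
      have hπc : π c = π y := by
        have h1 : π (y⁻¹ * c) = 1 := (QuotientGroup.eq_one_iff _).mpr hcN
        rw [map_mul, map_inv, inv_mul_eq_one] at h1
        exact h1.symm
      have hc1 : c ≠ 1 := by
        rintro rfl
        apply hy1
        rw [← hπc, map_one]
      obtain ⟨a, haN, ha1, -, haR⟩ := exists_central_in_pgroup R N hRp hNR
        (fun u _ z hz => hNn.conj_mem z hz u) hNne
      have hCc := hCN c hc1
      have hwcC : w ∈ centralizer ({c} : Set G) := by
        rw [Subgroup.mem_centralizer_iff]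
        intro t ht
        rw [Set.mem_singleton_iff.mp ht]
        exact Subgroup.mem_centralizer_iff.mp hcC w (mem_zpowers w) |>.symm
      have haC : a ∈ centralizer ({c} : Set G) := by
        rw [Subgroup.mem_centralizer_iff]
        intro t ht
        rw [Set.mem_singleton_iff.mp ht]
        exact (haR c hcR).symm
      obtain ⟨k, hk⟩ := IsPGroup.iff_orderOf.mp hNp ⟨a, haN⟩
      have hk' : orderOf a = p ^ k := by rwa [Subgroup.orderOf_mk] at hk
      refine ⟨a, haN, ha1, CfsgLib.Trans.subgroup_commute_of_coprime hCc hwcC haC ?_⟩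
      rw [hk']
      exact Nat.Coprime.pow_right k hwc
  -- a fixed point
  have hTN : T ≤ normalizer (N : Set G) := hNnorm T
  let c : T →* MulAut N := (normalizerMonoidHom N).comp (Subgroup.inclusion hTN)
  have hcv : ∀ (t : T) (v : N), ((c t v : N) : G) = t * v * (t : G)⁻¹ := fun t v => rfl
  have hΓ : IsPGroup p c.range := by
    rintro ⟨_, t, rfl⟩
    obtain ⟨u, hu, v, hv, hdec, ⟨e', he'⟩, hvc⟩ := CfsgLib.Trans.exists_prime_decomp (t : G) p hpp
    have huT : u ∈ T := (Subgroup.zpowers_le.mpr t.2) hu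
    have hvT : v ∈ T := (Subgroup.zpowers_le.mpr t.2) hv
    have hcv1 : c ⟨v, hvT⟩ = 1 := by
      ext n
      have := hkey v hvT hvc n n.2
      show v * n * v⁻¹ = n
      rw [this]; group
    have hdec' : t = ⟨u, huT⟩ * ⟨v, hvT⟩ := Subtype.ext hdec
    refine ⟨e', ?_⟩
    apply Subtype.ext
    show (c t) ^ p ^ e' = 1
    rw [hdec', map_mul, hcv1, mul_one, ← map_pow]
    have : (⟨u, huT⟩ : T) ^ p ^ e' = 1 := Subtype.ext he'
    rw [this, map_one]
  haveI : Nontrivial N := (Subgroup.nontrivial_iff_ne_bot N).mpr hNne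
  have hpdN : p ∣ Nat.card N := by
    obtain ⟨k, hk⟩ := IsPGroup.iff_card.mp hNp
    have h1 : 1 < Nat.card N := Finite.one_lt_card
    rw [hk] at h1 ⊢
    have hk0 : k ≠ 0 := by
      rintro rfl
      simp at h1
    exact dvd_pow_self p hk0
  obtain ⟨z, hz, hz1⟩ := hΓ.exists_fixed_point_of_prime_dvd_card_of_fixed_point (α := N) hpdN (a := 1) (by
    intro g
    exact map_one _)
  have hz1' : (z : G) ≠ 1 := fun h => hz1 (Subtype.ext h.symm)
  apply CfsgLib.SS.nilpotent_of_le_sub _ (hCN z hz1')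
  intro t ht
  rw [Subgroup.mem_centralizer_iff]
  intro s hs
  rw [Set.mem_singleton_iff.mp hs]
  have h1 := hz ⟨c ⟨t, ht⟩, ⟨t, ht⟩, rfl⟩
  have h2 : ((c ⟨t, ht⟩ z : N) : G) = z := congrArg Subtype.val h1
  rw [hcv] at h2
  exact (mul_inv_eq_iff_eq_mul.mp h2).symm

include hNp hCN hNc hNne in
/-- The step for an abelian normal `p`-subgroup. -/
theorem cn_quotient_step : IsCNGroup (G ⧸ N) := by
  intro xbar hx
  have hord1 : orderOf xbar ≠ 1 := fun h => hx (orderOf_eq_one_iff.mp h)
  obtain ⟨r, hr, hrd⟩ := Nat.exists_prime_and_dvd hord1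
  haveI hrf : Fact r.Prime := ⟨hr⟩
  set ybar := xbar ^ (orderOf xbar / r) with hybar
  have hyord : orderOf ybar = r := orderOf_pow_orderOf_div (orderOf_pos xbar).ne' hrd
  have hy1 : ybar ≠ 1 := by
    intro h
    rw [h, orderOf_one] at hyord
    exact hr.one_lt.ne hyord
  have hyr : ybar ^ r = 1 := by rw [← hyord]; exact pow_orderOf_eq_one ybar
  have hle : centralizer ({xbar} : Set (G ⧸ N)) ≤ centralizer ({ybar} : Set (G ⧸ N)) := by
    intro g hg
    rw [Subgroup.mem_centralizer_iff] at hg ⊢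
    intro t ht
    rw [Set.mem_singleton_iff.mp ht]
    have h1 := hg xbar rfl
    exact (Commute.pow_left (show Commute xbar g from h1) _)
  suffices h : Group.IsNilpotent (centralizer ({ybar} : Set (G ⧸ N))) from CfsgLib.SS.nilpotent_of_le_sub hle h
  obtain ⟨y₀, hy₀⟩ := QuotientGroup.mk'_surjective N ybar
  obtain ⟨u, hu, v, hv, hdec, ⟨e, he⟩, hvc⟩ := CfsgLib.Trans.exists_prime_decomp y₀ r hr
  have hπv : QuotientGroup.mk' N v = 1 := by
    obtain ⟨i, rfl⟩ := Subgroup.mem_zpowers_iff.mp hv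
    set w := y₀ ^ i with hw
    have h1 : (QuotientGroup.mk' N w) ^ r = 1 := by
      rw [hw, map_zpow, hy₀, ← zpow_natCast, ← zpow_mul, mul_comm, zpow_mul, zpow_natCast, hyr, one_zpow]
    have h2 : (QuotientGroup.mk' N w) ^ orderOf w = 1 := by
      rw [← map_pow, pow_orderOf_eq_one, map_one]
    have h3 : orderOf (QuotientGroup.mk' N w) ∣ Nat.gcd r (orderOf w) :=
      Nat.dvd_gcd (orderOf_dvd_of_pow_eq_one h1) (orderOf_dvd_of_pow_eq_one h2)
    have h4 : Nat.gcd r (orderOf w) = 1 := hvc.symm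
    rw [h4] at h3
    exact orderOf_eq_one_iff.mp (Nat.dvd_one.mp h3)
  have hπu : QuotientGroup.mk' N u = ybar := by
    rw [← hy₀, hdec, map_mul, hπv, mul_one]
  by_cases hrp : r = p
  · subst hrp
    have hn := preimage_nilpotent N r hNp hCN hNc hNne u e he (by rw [hπu]; exact hy1)
    rw [hπu] at hn
    have hmap : ((centralizer ({ybar} : Set (G ⧸ N))).comap (QuotientGroup.mk' N)).map (QuotientGroup.mk' N) =
        centralizer ({ybar} : Set (G ⧸ N)) :=
      Subgroup.map_comap_eq_self_of_surjective (QuotientGroup.mk'_surjective N) _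
    rw [← hmap]
    exact nilpotent_of_surjective ((QuotientGroup.mk' N).subgroupMap _) ((QuotientGroup.mk' N).subgroupMap_surjective _)
  · have hle2 := centralizer_le_map_coprime N p hNp r hrp u e he (by rw [hπu]; exact hy1) (by rw [hπu]; exact hyr)
    rw [hπu] at hle2
    have hu1 : u ≠ 1 := by
      rintro rfl
      apply hy1
      rw [← hπu, map_one]
    haveI := hCN u hu1
    have hn : Group.IsNilpotent ((centralizer ({u} : Set G)).map (QuotientGroup.mk' N)) :=
      nilpotent_of_surjective ((QuotientGroup.mk' N).subgroupMap _) ((QuotientGroup.mk' N).subgroupMap_surjective _)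
    exact CfsgLib.SS.nilpotent_of_le_sub hle2 hn

end Step

/-- S1473 -/
theorem cn_quotient_solvable : ∀ (n : ℕ) (G : Type u) [Group G] [Finite G], IsCNGroup G → ∀ (H : Subgroup G) [H.Normal],
    Nat.card H = n → Group.IsSolvable H → IsCNGroup (G ⧸ H) := by
  intro n
  induction n using Nat.strong_induction_on with
  | _ n ih =>
    intro G _ _ hCN H hHn hn hs
    by_cases hbot : H = ⊥
    · subst hbot
      have e : G ≃* G ⧸ (⊥ : Subgroup G) := (QuotientGroup.quotientBot (G := G)).symm
      exact IsCNGroup.of_equiv e hCN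
    obtain ⟨p, hp, N, hNH, hNn, hNne, hNc, hNp⟩ := exists_abelian_pgroup_normal H hHn hs hbot
    haveI := hNn
    haveI : Fact p.Prime := ⟨hp⟩
    have hstep := cn_quotient_step N p hNp hCN hNc hNne
    let π := QuotientGroup.mk' N
    have hπs : Function.Surjective π := QuotientGroup.mk'_surjective N
    haveI hH₁n : (H.map π).Normal := Subgroup.Normal.map hHn π hπs
    have hH₁s : Group.IsSolvable (H.map π) :=
      solvable_of_surjective (f := π.subgroupMap H) (π.subgroupMap_surjective H)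
    have hlt : Nat.card (H.map π) < n := by
      rw [← hn]
      by_contra hge
      push Not at hge
      have hbij := (Function.Surjective.bijective_of_nat_card_le (π.subgroupMap_surjective H) hge)
      obtain ⟨x, hx, hx1⟩ := (Subgroup.bot_or_exists_ne_one N).resolve_left hNne
      have h1 : π.subgroupMap H ⟨x, hNH hx⟩ = π.subgroupMap H 1 := by
        apply Subtype.ext
        show π x = π 1
        rw [map_one]
        exact (QuotientGroup.eq_one_iff x).mpr hx
      have h2 := hbij.1 h1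
      exact hx1 (congrArg Subtype.val h2)
    have h3 := ih _ hlt (G ⧸ N) hstep (H.map π) rfl hH₁s
    exact IsCNGroup.of_equiv (QuotientGroup.quotientQuotientEquivQuotient N H hNH) h3

end CfsgLib.OOL
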