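import Cfsg.Agent.Lib.OOL.CNFrob
import Cfsg.Agent.Lib.OOL.CNQuot
import Cfsg.Agent.Lib.SS.UniqueP
import Cfsg.Agent.Lib.Solv.Fit
import Cfsg.Agent.Lib.PLocal.Core

set_option autoImplicit false
set_option linter.unusedSectionVars false
set_option linter.style.haveILetI false
set_option linter.unusedVariables false

open Pointwise
open scoped commutatorElement IsMulCommutative
open Subgroup CfsgLib.Solv Cfsg

namespace CfsgLib.OOL

universe u

variable {G : Type u} [Group G] [Finite G]

/-- `card (comap π X) = card X * card N`. -/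
theorem card_comap_mk (N : Subgroup G) [N.Normal] (X : Subgroup (G ⧸ N)) :
    Nat.card (X.comap (QuotientGroup.mk' N)) = Nat.card X * Nat.card N := by
  have hfs : Function.Surjective (QuotientGroup.mk' N) := QuotientGroup.mk'_surjective N
  have h1 := Subgroup.card_mul_index (X.comap (QuotientGroup.mk' N))
  have h2 := Subgroup.card_mul_index X
  have h3 : (X.comap (QuotientGroup.mk' N)).index = X.index := Subgroup.index_comap_of_surjective X hfs
  have h4 := Subgroup.card_eq_card_quotient_mul_card_subgroup N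
  have hipos : 0 < X.index := Nat.pos_of_ne_zero Subgroup.index_ne_zero_of_finite
  rw [h3, h4, ← h2] at h1
  apply Nat.eq_of_mul_eq_mul_right hipos
  rw [h1]
  ring

/-- `O_p(G/O_p(G)) = 1`. -/
theorem pCore_quotient_pCore_eq_bot (p : ℕ) [Fact p.Prime] : pCore p (G ⧸ pCore p G) = ⊥ := by
  set N := pCore p G with hN
  haveI hNn : N.Normal := CfsgLib.PLocal.pCore_normal'
  set X := pCore p (G ⧸ N) with hX
  haveI hXn : X.Normal := CfsgLib.PLocal.pCore_normal'
  set f := QuotientGroup.mk' N with hf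
  have hfs : Function.Surjective f := QuotientGroup.mk'_surjective N
  set Y : Subgroup G := X.comap f with hY
  haveI hYn : Y.Normal := hXn.comap f
  have hYp : IsPGroup p Y := by
    rw [IsPGroup.iff_card]
    obtain ⟨a, ha⟩ := IsPGroup.iff_card.mp (pCore_isPGroup (G := G ⧸ N) p)
    obtain ⟨b, hb⟩ := IsPGroup.iff_card.mp (pCore_isPGroup (G := G) p)
    refine ⟨a + b, ?_⟩
    rw [hY, hf, card_comap_mk, pow_add]
    rw [hX, ha, hN, hb]
  have hYN : Y ≤ N := le_pCore' Y hYp
  rw [eq_bot_iff]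
  intro z hz
  obtain ⟨x, rfl⟩ := hfs z
  have : x ∈ Y := hz
  have hxN := hYN this
  rw [Subgroup.mem_bot]
  exact (QuotientGroup.eq_one_iff x).mpr hxN

/-- `p`-elements of a normal nilpotent subgroup lie in `O_p`. -/
theorem pelt_mem_pCore (X : Subgroup G) [hXn : X.Normal] (hX : Group.IsNilpotent X) (p : ℕ) [Fact p.Prime]
    {g : G} (hg : g ∈ X) {k : ℕ} (hk : g ^ p ^ k = 1) : g ∈ pCore p G := by
  obtain ⟨P', hP'X, hP'p, hmem, -, -, -⟩ := exists_nil_part X hX p
  haveI hP'n : P'.Normal := by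
    constructor
    intro y hy t
    obtain ⟨e, he⟩ := hP'p ⟨y, hy⟩
    have he' : y ^ p ^ e = 1 := congrArg Subtype.val he
    apply hmem _ (hXn.conj_mem y (hP'X hy) t)
    refine ⟨e, ?_⟩
    rw [conj_pow, he']
    group
  exact le_pCore' P' hP'p (hmem g hg ⟨k, hk⟩)

/-- A nilpotent odd subgroup acting fixed point freely is cyclic. -/
theorem nilp_frob_odd_cyclic (K E : Subgroup G) [K.Normal] (hK : K ≠ ⊥)
    (hfpf : ∀ h ∈ E, h ≠ 1 → K ⊓ centralizer {h} = ⊥) (hnil : Group.IsNilpotent E)
    (hodd : Odd (Nat.card E)) : IsCyclic E := by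
  classical
  haveI : IsZGroup E := by
    constructor
    intro p hp P
    haveI : Fact p.Prime := ⟨hp⟩
    rcases CfsgLib.SS.fpf_sylow_structure K E hK hfpf p P with h | ⟨n, ⟨e⟩⟩
    · exact h
    · exfalso
      have h1 : Nat.card (P : Subgroup E) = 4 * 2 ^ n := by
        rw [Nat.card_congr e.toEquiv, Nat.card_eq_fintype_card, QuaternionGroup.card]
      have h2 : Nat.card (P : Subgroup E) ∣ Nat.card E := Subgroup.card_subgroup_dvd_card _
      have h3 : 2 ∣ Nat.card E := Dvd.dvd.trans (by rw [h1]; exact ⟨2 * 2 ^ n, by ring⟩) h2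
      exact (Nat.not_even_iff_odd.mpr hodd) (even_iff_two_dvd.mpr h3)
  infer_instance

/-- Structure of a nilpotent Frobenius complement. -/
theorem nilp_frob_structure (K E : Subgroup G) [K.Normal] (hK : K ≠ ⊥)
    (hfpf : ∀ h ∈ E, h ≠ 1 → K ⊓ centralizer {h} = ⊥) (hnil : Group.IsNilpotent E) :
    IsCyclic E ∨ ∃ C Q : Subgroup G, C ⊔ Q = E ∧ (∀ a ∈ C, ∀ b ∈ Q, a * b = b * a) ∧ IsCyclic C ∧
      Odd (Nat.card C) ∧ ∃ n : ℕ, Nonempty (↥Q ≃* QuaternionGroup (2 ^ n)) := by
  classical
  by_cases hz : IsZGroup E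
  · left; infer_instance
  right
  rw [isZGroup_iff] at hz
  push Not at hz
  obtain ⟨p, hp, P, hPc⟩ := hz
  haveI : Fact p.Prime := ⟨hp⟩
  rcases CfsgLib.SS.fpf_sylow_structure K E hK hfpf p P with h | ⟨n, ⟨e⟩⟩
  · exact absurd h hPc
  have h1 : Nat.card (P : Subgroup E) = 4 * 2 ^ n := by
    rw [Nat.card_congr e.toEquiv, Nat.card_eq_fintype_card, QuaternionGroup.card]
  have hp2 : p = 2 := by
    obtain ⟨k, hk⟩ := IsPGroup.iff_card.mp P.isPGroup'
    have h2d : 2 ∣ p ^ k := by
      rw [← hk, h1]; exact ⟨2 * 2 ^ n, by ring⟩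
    exact ((Nat.prime_dvd_prime_iff_eq Nat.prime_two hp).mp (Nat.prime_two.dvd_of_dvd_pow h2d)).symm
  haveI hPn : (P : Subgroup E).Normal :=
    Sylow.normal_of_normalizerCondition (fun K => Group.normalizerCondition_of_isNilpotent (H := K)) P
  obtain ⟨C', hC'⟩ := Subgroup.exists_right_complement'_of_coprime P.card_coprime_index
  have hidx : (P : Subgroup E).index = Nat.card C' := hC'.symm.index_eq_card
  have hcop : (Nat.card (P : Subgroup E)).Coprime (Nat.card C') := hidx ▸ P.card_coprime_index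
  have hcard : ∀ X : Subgroup E, Nat.card (X.map E.subtype) = Nat.card X := fun X =>
    Subgroup.card_map_of_injective E.subtype_injective
  refine ⟨C'.map E.subtype, (P : Subgroup E).map E.subtype, ?_, ?_, ?_, ?_, n, ⟨?_⟩⟩
  · rw [← Subgroup.map_sup, sup_comm, hC'.sup_eq_top]
    ext x
    simp
  · rintro _ ⟨a, ha, rfl⟩ _ ⟨b, hb, rfl⟩
    have hc : (orderOf a).Coprime (orderOf b) :=
      Nat.Coprime.coprime_dvd_left (Subgroup.orderOf_dvd_natCard C' ha)
        (Nat.Coprime.coprime_dvd_right (Subgroup.orderOf_dvd_natCard _ hb) hcop.symm)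
    exact congrArg Subtype.val (CfsgLib.Trans.commute_of_coprime hnil hc)
  · have hoddC : Odd (Nat.card C') := by
      rw [← Nat.not_even_iff_odd, even_iff_two_dvd]
      intro h2
      have : 2 ∣ Nat.card (P : Subgroup E) := by rw [h1]; exact ⟨2 * 2 ^ n, by ring⟩
      exact Nat.Prime.not_coprime_iff_dvd.mpr ⟨2, Nat.prime_two, this, h2⟩ hcop
    have hCle : C'.map E.subtype ≤ E := Subgroup.map_subtype_le _
    refine nilp_frob_odd_cyclic K _ hK (fun h hh => hfpf h (hCle hh)) ?_ (by rwa [hcard])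
    exact CfsgLib.SS.nilpotent_of_le_sub hCle hnil
  · rw [hcard, ← Nat.not_even_iff_odd, even_iff_two_dvd]
    intro h2
    have : 2 ∣ Nat.card (P : Subgroup E) := by rw [h1]; exact ⟨2 * 2 ^ n, by ring⟩
    exact Nat.Prime.not_coprime_iff_dvd.mpr ⟨2, Nat.prime_two, this, h2⟩ hcop
  · exact ((P : Subgroup E).equivMapOfInjective E.subtype E.subtype_injective).symm.trans e

/-- If `O_p` is nontrivial and a Sylow `p`-subgroup is not normal, no other core is nontrivial. -/
theorem cn_pCore_other_eq_bot (hCN : IsCNGroup G) (p : ℕ) [hpf : Fact p.Prime] (hK : pCore p G ≠ ⊥) (P : Sylow p G)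
    (hPn : ¬ (P : Subgroup G).Normal) (q : ℕ) [hqf : Fact q.Prime] (hqp : q ≠ p) : pCore q G = ⊥ := by
  classical
  by_contra hR
  set K := pCore p G with hKdef
  set R := pCore q G with hRdef
  haveI hKn : K.Normal := CfsgLib.PLocal.pCore_normal'
  haveI hRn : R.Normal := CfsgLib.PLocal.pCore_normal'
  have hKp : IsPGroup p K := pCore_isPGroup p
  have hRq : IsPGroup q R := pCore_isPGroup q
  have hKP : K ≤ P := CfsgLib.PLocal.pCore_le_sylow P
  obtain ⟨z, hzK, hz1, -, hzP⟩ := exists_central_in_pgroup (P : Subgroup G) K P.isPGroup' hKP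
    (fun u hu y hy => hKn.conj_mem y hy u) hK
  have hdis : Disjoint K R := IsPGroup.disjoint_of_ne p q hqp.symm K R hKp hRq
  have hRK : ∀ y ∈ R, y * z = z * y := fun y hy =>
    (Subgroup.commute_of_normal_of_disjoint K R hKn hRn hdis z y hzK hy).eq.symm
  have hPcop : ∀ u ∈ (P : Subgroup G), ∀ y ∈ R, (orderOf u).Coprime (orderOf y) := by
    intro u hu y hy
    obtain ⟨a, ha⟩ := (IsPGroup.iff_orderOf.mp P.isPGroup') ⟨u, hu⟩
    obtain ⟨b, hb⟩ := (IsPGroup.iff_orderOf.mp hRq) ⟨y, hy⟩
    rw [Subgroup.orderOf_mk] at ha hb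
    rw [ha, hb]
    exact Nat.Coprime.pow _ _ ((Nat.coprime_primes hpf.out hqf.out).mpr hqp.symm)
  have hPR : ∀ u ∈ (P : Subgroup G), ∀ y ∈ R, u * y = y * u := by
    intro u hu y hy
    exact CfsgLib.Trans.subgroup_commute_of_coprime (hCN z hz1) (mem_cs (hzP u hu)) (mem_cs (hRK y hy).symm)
      (hPcop u hu y hy)
  obtain ⟨w, hwR, hw1⟩ := (Subgroup.bot_or_exists_ne_one R).resolve_left hR
  set C : Subgroup G := centralizer (R : Set G) with hC
  haveI hCn : C.Normal := Subgroup.normal_centralizer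
  have hCw : C ≤ centralizer ({w} : Set G) := fun c hc => mem_cs (Subgroup.mem_centralizer_iff.mp hc w hwR)
  have hCnil : Group.IsNilpotent C := CfsgLib.SS.nilpotent_of_le_sub hCw (hCN w hw1)
  have hPC : (P : Subgroup G) ≤ C := fun u hu =>
    Subgroup.mem_centralizer_iff.mpr (fun y hy => (hPR u hu y hy).symm)
  have hPK : (P : Subgroup G) ≤ K := by
    intro u hu
    obtain ⟨e, he⟩ := P.isPGroup' ⟨u, hu⟩
    exact pelt_mem_pCore C hCnil p (hPC hu) (congrArg Subtype.val he)
  have : (P : Subgroup G) = K := le_antisymm hPK hKP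
  apply hPn
  rw [this]
  exact hKn

/-- With all other cores trivial, `F(G) = O_p(G)`. -/
theorem fitting_eq_pCore_of_others (p : ℕ) [hpf : Fact p.Prime]
    (hoth : ∀ (q : ℕ) [Fact q.Prime], q ≠ p → pCore q G = ⊥) : fittingSubgroup G = pCore p G := by
  apply le_antisymm
  · rw [fitting_eq_iSup_pCore]
    apply iSup_le
    rintro ⟨q, hq⟩
    haveI : Fact q.Prime := ⟨hq⟩
    by_cases h : q = p
    · subst h; exact le_rfl
    · show pCore q G ≤ _
      rw [hoth q h]; exact bot_le
  · haveI : (pCore p G).Normal := CfsgLib.PLocal.pCore_normal'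
    exact le_fittingSubgroup' _ (pCore_isPGroup p).isNilpotent

/-- `p'`-elements act fixed point freely on `O_p(G) = F(G)`. -/
theorem cn_pprime_fpf [Group.IsSolvable G] (hCN : IsCNGroup G) (p : ℕ) [hpf : Fact p.Prime]
    (hF : fittingSubgroup G = pCore p G) (g : G) (hg1 : g ≠ 1) (hgp : (orderOf g).Coprime p) :
    pCore p G ⊓ centralizer ({g} : Set G) = ⊥ := by
  classical
  set K := pCore p G with hKdef
  have hKp : IsPGroup p K := pCore_isPGroup p
  rw [eq_bot_iff]
  rintro x ⟨hxK, hxC⟩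
  by_contra hx1
  have hx1' : x ≠ 1 := fun h => hx1 (by rw [h]; exact one_mem _)
  obtain ⟨k, hk⟩ := IsPGroup.iff_card.mp hKp
  have hc : (orderOf g).Coprime (Nat.card K) := by
    rw [hk]; exact Nat.Coprime.pow_right k hgp
  have h1 := cn_centralizes_of_commute hCN K hKp.isNilpotent g x hxK hx1'
    (Subgroup.mem_centralizer_iff.mp hxC g rfl) hc
  have h2 : g ∈ centralizer (K : Set G) := Subgroup.mem_centralizer_iff.mpr (fun h hh => (h1 h hh).symm)
  have h3 : g ∈ K := by
    have := centralizer_fitting_le (G := G)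
    rw [hF] at this
    exact this h2
  have h4 : orderOf g ∣ Nat.card K := Subgroup.orderOf_dvd_natCard K h3
  have h5 : orderOf g = 1 := Nat.Coprime.eq_one_of_dvd hc h4
  exact hg1 (orderOf_eq_one_iff.mp h5)

/-- A Frobenius complement in a CN-group is nilpotent. -/
theorem cn_frob_nilpotent (hCN : IsCNGroup G) (K E : Subgroup G) [K.Normal] (hK : K ≠ ⊥) (hE : E ≠ ⊥)
    (hfpf : ∀ h ∈ E, h ≠ 1 → K ⊓ centralizer {h} = ⊥) : Group.IsNilpotent E := by
  have hcent := CfsgLib.SS.frobenius_center_ne_bot K E hK hE hfpf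
  obtain ⟨z, hz, hz1⟩ := (Subgroup.bot_or_exists_ne_one _).resolve_left hcent
  have hz1' : (z : G) ≠ 1 := fun h => hz1 (Subtype.ext h)
  apply CfsgLib.SS.nilpotent_of_le_sub _ (hCN z hz1')
  intro y hy
  rw [Subgroup.mem_centralizer_iff]
  intro w hw
  rw [Set.mem_singleton_iff] at hw
  subst hw
  have := Subgroup.mem_center_iff.mp hz ⟨y, hy⟩
  exact (congrArg Subtype.val this).symm

/-- Automorphisms of a cyclic group commute. -/
theorem mulAut_cyclic_comm {B : Type*} [Group B] [IsCyclic B] (f g : MulAut B) : f * g = g * f := by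
  obtain ⟨m, hm⟩ := MonoidHom.map_cyclic (f : B ≃* B).toMonoidHom
  ext b
  have h1 : ∀ x, f x = x ^ m := hm
  show f (g b) = g (f b)
  rw [h1, h1, map_zpow]

/-- A cyclic normal subgroup contains ... commutators centralize it. -/
theorem commutator_centralizes_cyclic (B : Subgroup G) [hB : B.Normal] [IsCyclic B] (g h : G) :
    ⁅g, h⁆ ∈ centralizer (B : Set G) := by
  have h1 : MulAut.conjNormal (H := B) ⁅g, h⁆ = 1 := by
    rw [map_commutatorElement, commutatorElement_eq_one_iff_mul_comm]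
    exact mulAut_cyclic_comm _ _
  rw [Subgroup.mem_centralizer_iff]
  intro b hb
  have h2 : ((MulAut.conjNormal (H := B) ⁅g, h⁆ ⟨b, hb⟩ : B) : G) = ⁅g, h⁆ * b * ⁅g, h⁆⁻¹ :=
    MulAut.conjNormal_apply _ _
  rw [h1] at h2
  have h3 : b = ⁅g, h⁆ * b * ⁅g, h⁆⁻¹ := h2
  have h4 : b * ⁅g, h⁆ = ⁅g, h⁆ * b := by
    conv_lhs => rw [h3]
    group
  exact h4

/-- Existence of a complement to a normal subgroup inside an overgroup, for coprime index. -/
theorem exists_compl_in (K T : Subgroup G) [hKn : K.Normal] (hKT : K ≤ T) (n : ℕ) (hcard : Nat.card T = n * Nat.card K)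
    (hcop : (Nat.card K).Coprime n) :
    ∃ A : Subgroup G, A ≤ T ∧ K ⊓ A = ⊥ ∧ K ⊔ A = T ∧ Nat.card A = n := by
  classical
  set K' : Subgroup T := K.subgroupOf T with hK'
  haveI : K'.Normal := hKn.subgroupOf T
  have hcK' : Nat.card K' = Nat.card K := card_subgroupOf_of_le hKT
  have hKpos : 0 < Nat.card K := Nat.card_pos
  have hidx : K'.index = n := by
    have := Subgroup.card_mul_index K'
    rw [hcK', hcard, mul_comm n] at this
    exact Nat.eq_of_mul_eq_mul_left hKpos this
  obtain ⟨A', hA'⟩ := Subgroup.exists_right_complement'_of_coprime (N := K') (by rw [hcK', hidx]; exact hcop)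
  refine ⟨A'.map T.subtype, Subgroup.map_subtype_le _, ?_, ?_, ?_⟩
  · rw [eq_bot_iff]
    rintro x ⟨hxK, ⟨a, ha, rfl⟩⟩
    have h1 : a ∈ K' ⊓ A' := ⟨hxK, ha⟩
    rw [hA'.disjoint.eq_bot] at h1
    have h2 : a = 1 := by simpa using h1
    rw [h2]; simp
  · apply le_antisymm
    · exact sup_le hKT (Subgroup.map_subtype_le _)
    · intro t ht
      have h2 : (⟨t, ht⟩ : T) ∈ K' ⊔ A' := by rw [hA'.sup_eq_top]; trivial
      have h3 : K' ⊔ A' ≤ (K ⊔ A'.map T.subtype).subgroupOf T := by
        apply sup_le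
        · intro y hy
          exact Subgroup.mem_sup_left hy
        · intro y hy
          exact Subgroup.mem_sup_right ⟨y, hy, rfl⟩
      exact h3 h2
  · rw [Subgroup.card_map_of_injective T.subtype_injective, ← hA'.symm.index_eq_card, hidx]

section Main

variable [Group.IsSolvable G]

/-- S1476, the case with no normal Sylow subgroup. -/
theorem cn_three_step (hCN : IsCNGroup G) (p : ℕ) [hpf : Fact p.Prime] (hK : pCore p G ≠ ⊥) (P : Sylow p G)
    (hPn : ¬ (P : Subgroup G).Normal) : IsThreeStepGroup p G := by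
  classical
  have hpp : p.Prime := hpf.out
  have hF : fittingSubgroup G = pCore p G := fitting_eq_pCore_of_others p
    (fun q _ hq => cn_pCore_other_eq_bot hCN p hK P hPn q hq)
  refine ⟨hK, ?_⟩
  set K := pCore p G with hKdef
  haveI hKn : K.Normal := CfsgLib.PLocal.pCore_normal'
  have hKp : IsPGroup p K := pCore_isPGroup p
  have hKP : K ≤ P := CfsgLib.PLocal.pCore_le_sylow P
  have hPK : ¬ (P : Subgroup G) ≤ K := by
    intro h
    apply hPn
    rw [le_antisymm h hKP]
    exact hKn
  obtain ⟨u, huP, huK⟩ := SetLike.not_le_iff_exists.mp hPK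
  set L := G ⧸ K with hL
  set π : G →* L := QuotientGroup.mk' K with hπ
  have hπs : Function.Surjective π := QuotientGroup.mk'_surjective K
  have hπker : ∀ x, π x = 1 ↔ x ∈ K := fun x => QuotientGroup.eq_one_iff x
  haveI hLsol : Group.IsSolvable L := solvable_of_surjective hπs
  haveI : Group.IsSolvable K := inferInstance
  have hLCN : IsCNGroup L := cn_quotient_solvable _ G hCN K rfl inferInstance
  have hOpL : pCore p L = ⊥ := pCore_quotient_pCore_eq_bot p
  set B := pPrimeCore p L with hBdef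
  haveI hBn : B.Normal := CfsgLib.PLocal.pPrimeCore_normal'
  have hBcop : (Nat.card B).Coprime p := pPrimeCore_coprime p
  have hFL : fittingSubgroup L ≤ B := by
    haveI hFn : (fittingSubgroup L).Normal := fittingSubgroup_normal'
    apply le_pPrimeCore'
    apply Nat.Coprime.symm
    rw [Nat.Prime.coprime_iff_not_dvd hpp]
    intro hd
    obtain ⟨⟨x, hx⟩, hxo⟩ := exists_prime_orderOf_dvd_card' p hd
    rw [Subgroup.orderOf_mk] at hxo
    have h1 : x ∈ pCore p L := pelt_mem_pCore _ fitting_nilpotent p hx (k := 1) (by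
      rw [pow_one, ← hxo]; exact pow_orderOf_eq_one x)
    rw [hOpL, Subgroup.mem_bot] at h1
    rw [h1, orderOf_one] at hxo
    exact hpp.one_lt.ne hxo
  -- the element `y`
  set y := π u with hy
  have hy1 : y ≠ 1 := fun h => huK ((hπker u).mp h)
  obtain ⟨ey, hey⟩ := P.isPGroup' ⟨u, huP⟩
  have hey' : y ^ p ^ ey = 1 := by
    rw [hy, ← map_pow]
    have : u ^ p ^ ey = 1 := congrArg Subtype.val hey
    rw [this, map_one]
  -- elements of `B` which are `p`-elements are trivial
  have hBpelt : ∀ x ∈ B, ∀ e, x ^ p ^ e = 1 → x = 1 := by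
    intro x hx e he
    have h1 : orderOf x ∣ Nat.card B := Subgroup.orderOf_dvd_natCard B hx
    have h2 : orderOf x ∣ p ^ e := orderOf_dvd_of_pow_eq_one he
    exact orderOf_eq_one_iff.mp (Nat.Coprime.eq_one_of_dvd
      (Nat.Coprime.coprime_dvd_left h1 (Nat.Coprime.pow_right e hBcop)) h2)
  have hyB : y ∉ B := fun h => hy1 (hBpelt y h ey hey')
  have hBbot : B ≠ ⊥ := by
    haveI : Nontrivial L := ⟨⟨y, 1, hy1⟩⟩
    obtain ⟨r, hr, N, -, hNn, hNne, -, hNp⟩ := exists_abelian_pgroup_normal (⊤ : Subgroup L) inferInstance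
      inferInstance (by exact top_ne_bot)
    haveI : Fact r.Prime := ⟨hr⟩
    haveI := hNn
    by_cases hrp : r = p
    · subst hrp
      have := le_pCore' N hNp
      rw [hOpL] at this
      exact absurd (le_bot_iff.mp this) hNne
    · obtain ⟨k, hk⟩ := IsPGroup.iff_card.mp hNp
      have h1 : N ≤ B := le_pPrimeCore' N (by
        rw [hk]; exact Nat.Coprime.pow_left k ((Nat.coprime_primes hr hpp).mpr hrp))
      intro hb
      rw [hb] at h1
      exact hNne (le_bot_iff.mp h1)
  -- the preimage `T`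
  set T : Subgroup G := B.comap π with hT
  haveI hTn : T.Normal := hBn.comap π
  have hKT : K ≤ T := by
    intro x hx
    show π x ∈ B
    rw [(hπker x).mpr hx]
    exact one_mem _
  have hTcard : Nat.card T = Nat.card B * Nat.card K := card_comap_mk K B
  obtain ⟨k0, hk0⟩ := IsPGroup.iff_card.mp hKp
  obtain ⟨A, hAT, hKA, hKAT, hAcard⟩ := exists_compl_in K T hKT (Nat.card B) hTcard (by
    rw [hk0]; exact (Nat.Coprime.pow_right k0 hBcop).symm)
  have hAcop : (Nat.card A).Coprime p := hAcard ▸ hBcop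
  have hAinj : ∀ a ∈ A, π a = 1 → a = 1 := by
    intro a ha h1
    have : a ∈ K ⊓ A := ⟨(hπker a).mp h1, ha⟩
    rw [hKA] at this
    simpa using this
  have hAB : A.map π = B := by
    apply le_antisymm
    · rintro _ ⟨a, ha, rfl⟩
      exact hAT ha
    · intro b hb
      obtain ⟨t, rfl⟩ := hπs b
      have ht : t ∈ K ⊔ A := by rw [hKAT]; exact hb
      obtain ⟨k, hk, a, ha, rfl⟩ := Subgroup.mem_sup_of_normal_left.mp ht
      refine ⟨a, ha, ?_⟩
      rw [map_mul, (hπker k).mpr hk, one_mul]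
  have hAbot : A ≠ ⊥ := by
    intro h
    rw [h, Subgroup.map_bot] at hAB
    exact hBbot hAB.symm
  have hordA : ∀ a ∈ A, (orderOf a).Coprime p := fun a ha =>
    Nat.Coprime.coprime_dvd_left (Subgroup.orderOf_dvd_natCard A ha) hAcop
  have hfpf : ∀ a ∈ A, a ≠ 1 → K ⊓ centralizer {a} = ⊥ := fun a ha ha1 =>
    cn_pprime_fpf hCN p hF a ha1 (hordA a ha)
  have hAnil : Group.IsNilpotent A := cn_frob_nilpotent hCN K A hK hAbot hfpf
  have hBnil : Group.IsNilpotent B := by
    rw [← hAB]
    exact Group.nilpotent_of_surjective (π.subgroupMap A) (π.subgroupMap_surjective A)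
  have hBF : B = fittingSubgroup L := le_antisymm (le_fittingSubgroup' B hBnil) hFL
  have hCB : centralizer (B : Set L) ≤ B := by
    have := centralizer_fitting_le (G := L)
    rwa [← hBF] at this
  -- `A` is odd
  have hodd : Odd (Nat.card A) := by
    rw [← Nat.not_even_iff_odd, even_iff_two_dvd]
    intro h2
    haveI : Fact (Nat.Prime 2) := ⟨Nat.prime_two⟩
    obtain ⟨⟨t, ht⟩, hto⟩ := exists_prime_orderOf_dvd_card' 2 h2
    rw [Subgroup.orderOf_mk] at hto
    have hinv := (CfsgLib.Solv.involution_inverts K A hfpf ht hto).1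
    have ht1 : t ≠ 1 := by
      rintro rfl
      simp at hto
    have huniq : ∀ s ∈ A, s ^ 2 = 1 → s ≠ 1 → s = t := by
      intro s hs hs2 hs1
      have hso : orderOf s = 2 := orderOf_eq_prime hs2 hs1
      have hinvs := (CfsgLib.Solv.involution_inverts K A hfpf hs hso).1
      by_contra hne
      have hst : s * t⁻¹ ≠ 1 := fun h => hne (mul_inv_eq_one.mp h)
      have h3 := hfpf _ (A.mul_mem hs (A.inv_mem ht)) hst
      have h4 : ∀ k ∈ K, k ∈ K ⊓ centralizer {s * t⁻¹} := by
        intro k hk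
        refine ⟨hk, mem_cs ?_⟩
        have e1 : t⁻¹ * k * t = k⁻¹ := by
          have ht2 : t⁻¹ = t := by
            rw [inv_eq_iff_mul_eq_one, ← pow_two, ← hto]; exact pow_orderOf_eq_one t
          have := hinv k hk
          rw [ht2] at *
          have h5 : t * k * t = k⁻¹ := by
            have h6 := hinv k hk
            rwa [ht2] at h6
          exact h5
        have e2 : s * k⁻¹ * s⁻¹ = k := by
          have := hinvs k⁻¹ (K.inv_mem hk)
          rwa [inv_inv] at this
        calc s * t⁻¹ * k = s * (t⁻¹ * k * t) * t⁻¹ := by group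
          _ = s * k⁻¹ * t⁻¹ := by rw [e1]
          _ = (s * k⁻¹ * s⁻¹) * (s * t⁻¹) := by group
          _ = k * (s * t⁻¹) := by rw [e2]
      rw [h3] at h4
      apply hK
      rw [eq_bot_iff]
      intro k hk
      exact h4 k hk
    have htbar : π t ≠ 1 := fun h => ht1 (hAinj t ht h)
    have htcent : ∀ g : L, g * π t * g⁻¹ = π t := by
      intro g
      have h1 : g * π t * g⁻¹ ∈ B := hBn.conj_mem _ (hAT ht) g
      rw [← hAB] at h1
      obtain ⟨s, hs, hse⟩ := h1
      have hts2 : t ^ 2 = 1 := by rw [← hto]; exact pow_orderOf_eq_one t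
      have hs2 : s ^ 2 = 1 := by
        apply hAinj _ (A.pow_mem hs 2)
        rw [map_pow, hse, conj_pow, ← map_pow, hts2, map_one]
        group
      have hs1 : s ≠ 1 := by
        rintro rfl
        rw [map_one] at hse
        have : π t = 1 := by
          have h7 : g * π t * g⁻¹ = 1 := hse.symm
          rw [mul_inv_eq_one] at h7
          exact mul_left_cancel (h7.trans (mul_one g).symm)
        exact htbar this
      rw [← hse, huniq s hs hs2 hs1]
    have hLnil : Group.IsNilpotent L := by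
      have h1 : Group.IsNilpotent (⊤ : Subgroup L) := CfsgLib.SS.nilpotent_of_le_sub (by
        intro g _
        refine mem_cs ?_
        have := htcent g
        rw [mul_inv_eq_iff_eq_mul] at this
        exact this.symm) (hLCN _ htbar)
      exact Group.nilpotent_of_mulEquiv Subgroup.topEquiv
    have h8 : (⊤ : Subgroup L) ≤ fittingSubgroup L :=
      le_fittingSubgroup' _ (Group.nilpotent_of_mulEquiv Subgroup.topEquiv.symm)
    exact hyB (hFL (h8 trivial))
  have hAcyc : IsCyclic A := nilp_frob_odd_cyclic K A hK hfpf hAnil hodd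
  haveI hBcyc : IsCyclic B := by
    have h1 : IsCyclic (A.map π) := isCyclic_of_surjective (π.subgroupMap A) (π.subgroupMap_surjective A)
    rwa [hAB] at h1
  have hcomm : ∀ g h : L, g * h * g⁻¹ * h⁻¹ ∈ B := fun g h => hCB (commutator_centralizes_cyclic B g h)
  have hoverN : ∀ v : L, (B ⊔ zpowers v).Normal := by
    intro v
    constructor
    intro n hn g
    have h1 : g * n * g⁻¹ = (g * n * g⁻¹ * n⁻¹) * n := by group
    rw [h1]
    exact Subgroup.mul_mem _ (Subgroup.mem_sup_left (hcomm g n)) hn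
  refine ⟨A, hAbot, hAcyc, hodd, hAcop, ?_⟩
  rw [hKAT]
  have hTtop : T ≠ ⊤ := by
    intro h
    have : u ∈ T := by rw [h]; trivial
    exact hyB this
  have hpprime : ∀ v : G, (orderOf v).Coprime p → v ∈ T := by
    intro v hv
    have h1 : Nat.card (zpowers (π v)) = orderOf (π v) := Nat.card_zpowers _
    have h2 : orderOf (π v) ∣ orderOf v := orderOf_map_dvd π v
    haveI := hoverN (π v)
    have h3 : (B ⊔ zpowers (π v)) ≤ B := by
      apply le_pPrimeCore'
      rw [sup_comm]
      apply Nat.Coprime.coprime_dvd_left (card_sup_dvd_mul (zpowers (π v)) B)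
      apply Nat.Coprime.mul_left
      · rw [h1]; exact Nat.Coprime.coprime_dvd_left h2 hv
      · exact hBcop
    exact h3 (Subgroup.mem_sup_right (mem_zpowers _))
  refine ⟨hTn, hTtop, ?_, hfpf, ?_⟩
  · have hpg : IsPGroup p (G ⧸ T) := by
      intro x
      obtain ⟨g, rfl⟩ := QuotientGroup.mk'_surjective T x
      obtain ⟨a, -, b, -, hab, ⟨e, he⟩, hbc⟩ := CfsgLib.Trans.exists_prime_decomp g p hpp
      refine ⟨e, ?_⟩
      have hb : QuotientGroup.mk' T b = 1 := (QuotientGroup.eq_one_iff b).mpr (hpprime b hbc)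
      rw [hab, map_mul, hb, mul_one, ← map_pow, he, map_one]
    obtain ⟨n, hn⟩ := IsPGroup.iff_card.mp hpg
    exact ⟨n, hn⟩
  · intro x hx a ha ha1 hc
    have hcc : π x * π a = π a * π x := by
      have h1 : π (x * a * x⁻¹ * a⁻¹) = 1 := (hπker _).mpr hc
      rw [map_mul, map_mul, map_mul, map_inv, map_inv] at h1
      have h2 : π x * π a * (π x)⁻¹ = π a := mul_inv_eq_one.mp h1
      rw [mul_inv_eq_iff_eq_mul] at h2
      exact h2
    have habar : π a ≠ 1 := fun h => ha1 (hAinj a ha h)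
    haveI hNn := hoverN (π x)
    have hsub : B ⊔ zpowers (π x) ≤ centralizer ({π a} : Set L) := by
      apply sup_le
      · intro b hb
        refine mem_cs ?_
        haveI : IsMulCommutative B := ⟨⟨fun p q => by
          obtain ⟨g, hg⟩ := IsCyclic.exists_generator (α := B)
          obtain ⟨i, hi⟩ := hg p
          obtain ⟨j, hj⟩ := hg q
          rw [← hi, ← hj]
          exact zpow_mul_comm _ _ _⟩⟩
        have := mul_comm (⟨π a, hAT ha⟩ : B) ⟨b, hb⟩
        exact congrArg Subtype.val this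
      · rw [Subgroup.zpowers_le]
        exact mem_cs hcc.symm
    have hNnil := CfsgLib.SS.nilpotent_of_le_sub hsub (hLCN _ habar)
    have h4 := le_fittingSubgroup' _ hNnil
    exact hx (hFL (h4 (Subgroup.mem_sup_right (mem_zpowers _))))

/-- S1476. -/
theorem cn_trichotomy (hCN : IsCNGroup G) :
    Group.IsNilpotent G ∨
      (∃ K E : Subgroup G, K.Normal ∧ Subgroup.IsComplement' K E ∧ IsFrobeniusComplement E ∧
        (IsCyclic E ∨ ∃ C Q : Subgroup G, C ⊔ Q = E ∧ (∀ a ∈ C, ∀ b ∈ Q, a * b = b * a) ∧ IsCyclic C ∧ Odd (Nat.card C) ∧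
          ∃ n : ℕ, Nonempty (↥Q ≃* QuaternionGroup (2 ^ n)))) ∨
      ∃ p : ℕ, p.Prime ∧ IsThreeStepGroup p G := by
  classical
  by_cases hnil : Group.IsNilpotent G
  · exact Or.inl hnil
  right
  have hnt : Nontrivial G := by
    by_contra h
    rw [not_nontrivial_iff_subsingleton] at h
    exact hnil inferInstance
  obtain ⟨p, hp, N, -, hNn, hNne, -, hNp⟩ := exists_abelian_pgroup_normal (⊤ : Subgroup G) inferInstance
      inferInstance (by exact top_ne_bot)
  haveI hpf : Fact p.Prime := ⟨hp⟩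
  haveI := hNn
  have hKne : pCore p G ≠ ⊥ := by
    intro h
    have := le_pCore' N hNp
    rw [h] at this
    exact hNne (le_bot_iff.mp this)
  by_cases hex : ∃ (q : ℕ) (_ : Fact q.Prime) (Q : Sylow q G), (Q : Subgroup G) ≠ ⊥ ∧ (Q : Subgroup G).Normal
  · left
    obtain ⟨q, hq, Q, hQ1, hQn⟩ := hex
    obtain ⟨hH1, hHtop, ⟨E, hE, hfrob, hfpf⟩, -⟩ := cn_normal_sylow_frobenius hCN hnil q Q hQ1 hQn
    refine ⟨fittingHall G, E, inferInstance, hE, hfrob, ?_⟩
    have hEbot : E ≠ ⊥ := hfrob.1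
    exact nilp_frob_structure _ E hH1 hfpf (cn_frob_nilpotent hCN _ E hH1 hEbot hfpf)
  · right
    push Not at hex
    refine ⟨p, hp, cn_three_step hCN p hKne default ?_⟩
    intro hn
    have hPbot : (default : Sylow p G) = (default : Sylow p G) := rfl
    have hne : ((default : Sylow p G) : Subgroup G) ≠ ⊥ := by
      intro h
      have h1 : pCore p G ≤ ((default : Sylow p G) : Subgroup G) := CfsgLib.PLocal.pCore_le_sylow _
      rw [h] at h1
      exact hKne (le_bot_iff.mp h1)
    exact hex p hpf _ hne hn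

end Main

end CfsgLib.OOL
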