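import Cfsg.Agent.Lib.H3.ConjFam5
import Cfsg.Prelude.Def_ConjugacyFunctors

set_option autoImplicit false
set_option linter.unusedSectionVars false
set_option linter.style.haveILetI false
set_option linter.unusedVariables false

open Pointwise
open Subgroup Cfsg CfsgLib.CT1 CfsgLib.ConjFam CfsgLib.Solv

namespace CfsgLib.FCtl

universe u

/-- Natural functors on the `p`-subgroups of finite groups. -/
structure SecFun (p : ℕ) (W : ∀ (Γ : Type u) [Group Γ], Subgroup Γ → Subgroup Γ) : Prop where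
  nat : ∀ (Γ Γ' : Type u) [Group Γ] [Group Γ'] [Finite Γ] [Finite Γ'] (f : Γ →* Γ'), Function.Injective f →
    ∀ T : Subgroup Γ, IsPGroup p T → W Γ' (T.map f) = (W Γ T).map f
  le : ∀ (Γ : Type u) [Group Γ] [Finite Γ] (T : Subgroup Γ), IsPGroup p T → W Γ T ≤ T
  ne : ∀ (Γ : Type u) [Group Γ] [Finite Γ] (T : Subgroup Γ), IsPGroup p T → T ≠ ⊥ → W Γ T ≠ ⊥

section Basic

variable {p : ℕ} {Γ : Type u} [Group Γ]

theorem coe_smul_syl (g : Γ) (P : Sylow p Γ) : ((g • P : Sylow p Γ) : Subgroup Γ) = (P : Subgroup Γ).map (cj g) := by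
  rw [Sylow.coe_subgroup_smul]
  rfl

theorem mem_smul_syl (g : Γ) (P : Sylow p Γ) (x : Γ) :
    x ∈ ((g • P : Sylow p Γ) : Subgroup Γ) ↔ g⁻¹ * x * g ∈ (P : Subgroup Γ) := by
  rw [coe_smul_syl]
  constructor
  · rintro ⟨y, hy, rfl⟩
    have h : g⁻¹ * (cj g y) * g = y := by simp [cj, mul_assoc]
    rw [h]
    exact hy
  · intro h
    exact ⟨_, h, by simp [cj, mul_assoc]⟩

theorem map_cj_eq_of_norm {H : Subgroup Γ} {y : Γ} (hy : y ∈ normalizer (H : Set Γ)) : H.map (cj y) = H := by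
  ext x
  constructor
  · rintro ⟨a, ha, rfl⟩
    exact (mem_normalizer_iff.mp hy a).mp ha
  · intro hx
    refine ⟨y⁻¹ * x * y, ?_, by simp [cj, mul_assoc]⟩
    apply (mem_normalizer_iff.mp hy _).mpr
    simpa [mul_assoc] using hx

theorem norm_of_map_cj_eq {H : Subgroup Γ} {y : Γ} (hy : H.map (cj y) = H) : y ∈ normalizer (H : Set Γ) := by
  rw [mem_normalizer_iff]
  intro x
  constructor
  · intro hx
    rw [← hy]
    exact ⟨x, hx, rfl⟩
  · intro hx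
    rw [← hy] at hx
    obtain ⟨a, ha, hax⟩ := hx
    have : a = x := (MulAut.conj y).injective hax
    rwa [← this]

end Basic

section Ch

variable {ι : Type*} (𝕎 : ι → ∀ (Γ : Type u) [Group Γ], Subgroup Γ → Subgroup Γ) {p : ℕ}

/-- One step of the relation on Sylow subgroups containing `A`. -/
def FStep {Γ : Type u} [Group Γ] (A : Subgroup Γ) (P Q : Sylow p Γ) : Prop :=
  A ≤ (P : Subgroup Γ) ∧ A ≤ (Q : Subgroup Γ) ∧ ∃ c ∈ centralizer (A : Set Γ),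
    c • P = Q ∨ ∃ i, (𝕎 i Γ P).map (cj c) = 𝕎 i Γ Q

/-- The relation on Sylow subgroups containing `A`. -/
def FCh {Γ : Type u} [Group Γ] (A : Subgroup Γ) : Sylow p Γ → Sylow p Γ → Prop :=
  Relation.ReflTransGen (FStep 𝕎 A)

/-- Any two Sylow subgroups containing `A` are linked. -/
def YC (p : ℕ) (Γ : Type u) [Group Γ] : Prop :=
  ∀ (A : Subgroup Γ) (P Q : Sylow p Γ), A ≤ (P : Subgroup Γ) → A ≤ (Q : Subgroup Γ) → FCh 𝕎 A P Q

/-- Family control of strong fusion in `Γ`. -/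
def FC (p : ℕ) (Γ : Type u) [Group Γ] : Prop :=
  FamilyControlsStrongFusionIn p (Set.range fun i => 𝕎 i Γ) ⊤

variable {𝕎}

section
variable {Γ : Type u} [Group Γ] [Finite Γ] [hpf : Fact p.Prime]

theorem W_cj {W : ∀ (Γ : Type u) [Group Γ], Subgroup Γ → Subgroup Γ} (h : SecFun p W) (g : Γ) (T : Subgroup Γ)
    (hT : IsPGroup p T) : W Γ (T.map (cj g)) = (W Γ T).map (cj g) :=
  h.nat Γ Γ (cj g) (MulAut.conj g).injective T hT

theorem W_smul {W : ∀ (Γ : Type u) [Group Γ], Subgroup Γ → Subgroup Γ} (h : SecFun p W) (g : Γ) (P : Sylow p Γ) :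
    W Γ ((g • P : Sylow p Γ) : Subgroup Γ) = (W Γ (P : Subgroup Γ)).map (cj g) := by
  rw [coe_smul_syl]
  exact W_cj h g P P.isPGroup'

theorem W_norm {W : ∀ (Γ : Type u) [Group Γ], Subgroup Γ → Subgroup Γ} (h : SecFun p W) {T : Subgroup Γ}
    (hT : IsPGroup p T) {g : Γ} (hg : g ∈ normalizer (T : Set Γ)) : g ∈ normalizer ((W Γ T : Subgroup Γ) : Set Γ) := by
  apply norm_of_map_cj_eq
  rw [← W_cj h g T hT, map_cj_eq_of_norm hg]

theorem le_W_norm {W : ∀ (Γ : Type u) [Group Γ], Subgroup Γ → Subgroup Γ} (h : SecFun p W) {T : Subgroup Γ}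
    (hT : IsPGroup p T) : T ≤ normalizer ((W Γ T : Subgroup Γ) : Set Γ) := fun g hg =>
  W_norm h hT (le_normalizer hg)

theorem isConj_of_secFun {W : ∀ (Γ : Type u) [Group Γ], Subgroup Γ → Subgroup Γ} (h : SecFun p W) :
    IsConjugacyFunctor p (W Γ) := fun P hP => ⟨h.le Γ P hP, h.ne Γ P hP, fun g => W_cj h g P hP⟩

theorem FStep.symm {A : Subgroup Γ} {P Q : Sylow p Γ} (h : FStep 𝕎 A P Q) : FStep 𝕎 A Q P := by
  obtain ⟨hP, hQ, c, hc, hcase⟩ := h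
  refine ⟨hQ, hP, c⁻¹, inv_mem hc, ?_⟩
  rcases hcase with h1 | ⟨i, h1⟩
  · left
    rw [← h1, inv_smul_smul]
  · right
    refine ⟨i, ?_⟩
    rw [← h1, map_cj_inv_cancel]

theorem FCh.symm {A : Subgroup Γ} {P Q : Sylow p Γ} (h : FCh 𝕎 A P Q) : FCh 𝕎 A Q P :=
  by
  induction h with
  | refl => exact Relation.ReflTransGen.refl
  | tail _ hbc ih => exact Relation.ReflTransGen.head (FStep.symm hbc) ih

theorem FCh.trans {A : Subgroup Γ} {P Q U : Sylow p Γ} (h : FCh 𝕎 A P Q) (h' : FCh 𝕎 A Q U) : FCh 𝕎 A P U :=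
  Relation.ReflTransGen.trans h h'

theorem FCh.refl (A : Subgroup Γ) (P : Sylow p Γ) : FCh 𝕎 A P P := Relation.ReflTransGen.refl

theorem FStep.mono {A A' : Subgroup Γ} (hAA' : A ≤ A') {P Q : Sylow p Γ} (h : FStep 𝕎 A' P Q) : FStep 𝕎 A P Q := by
  obtain ⟨hP, hQ, c, hc, hcase⟩ := h
  exact ⟨hAA'.trans hP, hAA'.trans hQ, c, centralizer_le hAA' hc, hcase⟩

theorem FCh.mono {A A' : Subgroup Γ} (hAA' : A ≤ A') {P Q : Sylow p Γ} (h : FCh 𝕎 A' P Q) : FCh 𝕎 A P Q :=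
  Relation.ReflTransGen.mono (fun _ _ h => FStep.mono hAA' h) _ _ h

theorem FStep.conj (hS : ∀ i, SecFun p (𝕎 i)) {A : Subgroup Γ} {P Q : Sylow p Γ} (l : Γ) (h : FStep 𝕎 A P Q) :
    FStep 𝕎 (A.map (cj l)) (l • P) (l • Q) := by
  obtain ⟨hP, hQ, c, hc, hcase⟩ := h
  refine ⟨?_, ?_, l * c * l⁻¹, ?_, ?_⟩
  · rw [coe_smul_syl]
    exact map_mono hP
  · rw [coe_smul_syl]
    exact map_mono hQ
  · rw [Subgroup.mem_centralizer_iff]
    rintro _ ⟨a, ha, rfl⟩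
    have h1 := Subgroup.mem_centralizer_iff.mp hc a ha
    change l * a * l⁻¹ * (l * c * l⁻¹) = l * c * l⁻¹ * (l * a * l⁻¹)
    calc l * a * l⁻¹ * (l * c * l⁻¹) = l * (a * c) * l⁻¹ := by group
      _ = l * (c * a) * l⁻¹ := by rw [h1]
      _ = l * c * l⁻¹ * (l * a * l⁻¹) := by group
  · rcases hcase with h1 | ⟨i, h1⟩
    · left
      rw [← h1, smul_smul, smul_smul]
      congr 1
      group
    · right
      refine ⟨i, ?_⟩
      rw [W_smul (hS i), W_smul (hS i), ← h1, ← map_cj_mul, ← map_cj_mul]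
      congr 2
      group

theorem FCh.conj (hS : ∀ i, SecFun p (𝕎 i)) {A : Subgroup Γ} {P Q : Sylow p Γ} (l : Γ) (h : FCh 𝕎 A P Q) :
    FCh 𝕎 (A.map (cj l)) (l • P) (l • Q) :=
  by
  induction h with
  | refl => exact Relation.ReflTransGen.refl
  | tail _ hbc ih => exact ih.tail (FStep.conj hS l hbc)

theorem FCh.conj_norm (hS : ∀ i, SecFun p (𝕎 i)) {A : Subgroup Γ} {P Q : Sylow p Γ} {l : Γ}
    (hl : l ∈ normalizer (A : Set Γ)) (h : FCh 𝕎 A P Q) : FCh 𝕎 A (l • P) (l • Q) := by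
  have := FCh.conj hS l h
  rwa [map_cj_eq_of_norm hl] at this

theorem le_smul_of_centr {A : Subgroup Γ} {P : Sylow p Γ} {c : Γ} (hc : c ∈ centralizer (A : Set Γ))
    (hP : A ≤ (P : Subgroup Γ)) : A ≤ ((c • P : Sylow p Γ) : Subgroup Γ) := by
  intro a ha
  rw [mem_smul_syl]
  have h1 := Subgroup.mem_centralizer_iff.mp hc a ha
  have h2 : c⁻¹ * a * c = a := by
    rw [mul_assoc, h1]
    group
  rw [h2]
  exact hP ha

theorem le_smul_of_norm {A : Subgroup Γ} {P : Sylow p Γ} {c : Γ} (hc : c ∈ normalizer (A : Set Γ))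
    (hP : A ≤ (P : Subgroup Γ)) : A ≤ ((c • P : Sylow p Γ) : Subgroup Γ) := by
  intro a ha
  rw [mem_smul_syl]
  apply hP
  have := (mem_normalizer_iff.mp (inv_mem hc) a).mp ha
  simpa using this

theorem FCh.of_centr {A : Subgroup Γ} {P : Sylow p Γ} {c : Γ} (hc : c ∈ centralizer (A : Set Γ))
    (hP : A ≤ (P : Subgroup Γ)) : FCh 𝕎 A P (c • P) :=
  Relation.ReflTransGen.single ⟨hP, le_smul_of_centr hc hP, c, hc, Or.inl rfl⟩

/-- The chain of a control datum. -/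
theorem ff_to_ch (hS : ∀ i, SecFun p (𝕎 i)) (T₀ : Sylow p Γ) {A : Set Γ} {h : Γ}
    (H : FF (gens (Set.range fun i => 𝕎 i Γ) ⊤ (T₀ : Subgroup Γ)) (T₀ : Subgroup Γ) A h) :
    ∀ A₀ : Subgroup Γ, (A₀ : Set Γ) = A → FCh 𝕎 A₀ T₀ (h⁻¹ • T₀) := by
  induction H with
  | @nil A h hA hh =>
    intro A₀ hA₀
    subst hA₀
    have hc : h⁻¹ ∈ centralizer (A₀ : Set Γ) := by
      apply inv_mem
      rw [Subgroup.mem_centralizer_iff]
      intro a ha
      have h1 := hh a ha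
      calc a * h = h * a * h⁻¹ * h := by rw [h1]
        _ = h * a := by group
    exact FCh.of_centr hc hA
  | @cons A y c hy hA H' ih =>
    intro A₀ hA₀
    subst hA₀
    obtain ⟨_, ⟨i, rfl⟩, hy2⟩ := hy
    have hy3 : y ∈ normalizer ((𝕎 i Γ (T₀ : Subgroup Γ) : Subgroup Γ) : Set Γ) := (Subgroup.mem_inf.mp hy2).2
    have h1 := ih (A₀.map (cj y)) (lc_coe y A₀).symm
    have h2 := FCh.conj hS y⁻¹ h1
    rw [map_cj_inv_cancel] at h2
    have h3 : FStep 𝕎 A₀ T₀ (y⁻¹ • T₀) := by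
      refine ⟨hA, ?_, 1, one_mem _, Or.inr ⟨i, ?_⟩⟩
      · intro a ha
        rw [mem_smul_syl, inv_inv]
        exact H'.source ⟨a, ha, rfl⟩
      · rw [W_smul (hS i), map_cj_eq_of_norm (inv_mem hy3), map_cj_one]
    have h4 : (c * y)⁻¹ • T₀ = y⁻¹ • c⁻¹ • T₀ := by
      rw [mul_inv_rev, mul_smul]
    rw [h4]
    exact (Relation.ReflTransGen.single h3).trans h2

theorem yc_of_fc (hS : ∀ i, SecFun p (𝕎 i)) (h : FC 𝕎 p Γ) : YC 𝕎 p Γ := by
  intro A P Q hP hQ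
  obtain ⟨g, hg⟩ := MulAction.exists_smul_eq Γ Q P
  have hQ' : Q = g⁻¹ • P := by rw [← hg, inv_smul_smul]
  have h𝓦 : ∀ W ∈ (Set.range fun i => 𝕎 i Γ), IsConjugacyFunctor p W := by
    rintro _ ⟨i, rfl⟩
    exact isConj_of_secFun (hS i)
  have hT' : IsSylowIn p (P : Subgroup Γ) ⊤ :=
    ⟨le_top, P.isPGroup', by rw [Subgroup.relIndex_top_right]; exact P.not_dvd_index⟩
  have H := family_control_of_sylow h𝓦 h hT' (A : Set Γ) g (mem_top g) hP (by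
    rintro _ ⟨a, ha, rfl⟩
    have h1 := hQ ha
    have h2 : g * a * g⁻¹ ∈ ((g • Q : Sylow p Γ) : Subgroup Γ) := by
      rw [mem_smul_syl]
      simpa [mul_assoc] using h1
    rwa [hg] at h2)
  rw [hQ']
  exact ff_to_ch hS P H A rfl

theorem ff_of_ch [Nonempty ι] (hS : ∀ i, SecFun p (𝕎 i)) (T₀ : Sylow p Γ) {A₀ : Subgroup Γ} (hA₀ : A₀ ≤ (T₀ : Subgroup Γ))
    {Q : Sylow p Γ} (hch : FCh 𝕎 A₀ T₀ Q) (hQ : A₀ ≤ (Q : Subgroup Γ)) :
    ∀ y : Γ, Q = y⁻¹ • T₀ → FF (gens (Set.range fun i => 𝕎 i Γ) ⊤ (T₀ : Subgroup Γ)) (T₀ : Subgroup Γ) (A₀ : Set Γ) y := by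
  classical
  have hgen : ∀ n : Γ, n ∈ normalizer ((T₀ : Subgroup Γ) : Set Γ) →
      n ∈ gens (Set.range fun i => 𝕎 i Γ) ⊤ (T₀ : Subgroup Γ) := by
    intro n hn
    obtain ⟨i⟩ := ‹Nonempty ι›
    exact ⟨_, ⟨i, rfl⟩, mem_inf.mpr ⟨mem_top n, W_norm (hS i) T₀.isPGroup' hn⟩⟩
  have hmemQ : ∀ {Q : Sylow p Γ} {y : Γ}, A₀ ≤ (Q : Subgroup Γ) → Q = y⁻¹ • T₀ →
      lc y (A₀ : Set Γ) ⊆ (T₀ : Subgroup Γ) := by
    intro Q y hQ hy
    rintro _ ⟨a, ha, rfl⟩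
    have h1 := hQ ha
    rw [hy, mem_smul_syl, inv_inv] at h1
    exact h1
  induction hch with
  | refl =>
    intro y hy
    have hn : y ∈ normalizer ((T₀ : Subgroup Γ) : Set Γ) := by
      have h1 : y • T₀ = T₀ := by
        conv_lhs => rw [hy]
        rw [smul_inv_smul]
      exact Sylow.smul_eq_iff_mem_normalizer.mp h1
    exact FF.step (hgen y hn) hA₀ (hmemQ hA₀ hy)
  | @tail U Q' hab hbc ih =>
    intro y hy
    obtain ⟨hU, hQ'', c, hc, hcase⟩ := hbc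
    obtain ⟨u, hu⟩ := MulAction.exists_smul_eq Γ U T₀
    have hU' : U = u⁻¹ • T₀ := by rw [← hu, inv_smul_smul]
    have IH := ih hU u hU'
    have hn : y * c * u⁻¹ ∈ gens (Set.range fun i => 𝕎 i Γ) ⊤ (T₀ : Subgroup Γ) := by
      rcases hcase with h1 | ⟨i, h1⟩
      · apply hgen
        apply Sylow.smul_eq_iff_mem_normalizer.mp
        rw [mul_smul, mul_smul, ← hU', h1, hy, smul_inv_smul]
      · refine ⟨_, ⟨i, rfl⟩, mem_inf.mpr ⟨mem_top _, ?_⟩⟩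
        apply norm_of_map_cj_eq
        have h2 : (𝕎 i Γ (U : Subgroup Γ)) = (𝕎 i Γ (T₀ : Subgroup Γ)).map (cj u⁻¹) := by
          rw [hU', W_smul (hS i)]
        have h3 : (𝕎 i Γ (Q' : Subgroup Γ)) = (𝕎 i Γ (T₀ : Subgroup Γ)).map (cj y⁻¹) := by
          rw [hy, W_smul (hS i)]
        rw [h2, h3, ← map_cj_mul] at h1
        rw [show y * c * u⁻¹ = y * (c * u⁻¹) by group, map_cj_mul, h1, ← map_cj_mul, mul_inv_cancel, map_cj_one]
    have hagree : ∀ a ∈ (A₀ : Set Γ), (y * c * u⁻¹ * u) * a * (y * c * u⁻¹ * u)⁻¹ = y * a * y⁻¹ := by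
      intro a ha
      have h1 := Subgroup.mem_centralizer_iff.mp hc a ha
      have h2 : y * c * u⁻¹ * u = y * c := by group
      rw [h2]
      calc y * c * a * (y * c)⁻¹ = y * (c * a * c⁻¹) * y⁻¹ := by group
        _ = y * (a * c * c⁻¹) * y⁻¹ := by rw [← h1]
        _ = y * a * y⁻¹ := by group
    have h5 : lc (y * c * u⁻¹) (lc u (A₀ : Set Γ)) ⊆ (T₀ : Subgroup Γ) := by
      rw [← lc_mul, lc_congr hagree]
      exact hmemQ hQ'' hy
    have h6 := FF.trans IH (FF.step hn IH.target h5)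
    exact h6.congr hagree

theorem fc_of_yc [Nonempty ι] (hS : ∀ i, SecFun p (𝕎 i)) (h : YC 𝕎 p Γ) : FC 𝕎 p Γ := by
  have T₀ : Sylow p Γ := default
  refine ⟨T₀, le_top, T₀.isPGroup', by rw [Subgroup.relIndex_top_right]; exact T₀.not_dvd_index, ?_⟩
  intro A y _ hA hAy
  set A₀ := Subgroup.closure A with hA₀
  have h1 : A₀ ≤ (T₀ : Subgroup Γ) := (closure_le _).mpr hA
  have h2 : A₀ ≤ ((y⁻¹ • T₀ : Sylow p Γ) : Subgroup Γ) := by
    rw [hA₀, closure_le]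
    intro a ha
    change a ∈ ((y⁻¹ • T₀ : Sylow p Γ) : Subgroup Γ)
    rw [mem_smul_syl, inv_inv]
    exact hAy ⟨a, ha, rfl⟩
  have H := ff_of_ch hS T₀ h1 (h A₀ T₀ _ h1 h2) h2 y rfl
  have H' := H.mono Subgroup.subset_closure
  obtain ⟨n, c, h0, hstep, hconj, hlast⟩ := H'.toFin
  refine ⟨n, c, h0, ?_, hconj, hlast⟩
  intro i
  obtain ⟨W, hW, hmem⟩ := hstep i
  exact ⟨W, hW, hmem⟩

end

end Ch

end CfsgLib.FCtl
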