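import Cfsg.Agent.Lib.OOL.GT3

set_option autoImplicit false
set_option linter.unusedSectionVars false
set_option linter.style.haveILetI false
set_option linter.unusedVariables false

open Pointwise
open scoped commutatorElement IsMulCommutative
open Subgroup Cfsg

namespace CfsgLib.OOL

universe u

section

variable {p : ℕ} [hpf : Fact p.Prime]

theorem center_ne_bot_of_pgroup {G : Type u} [Group G] [Finite G] {U : Subgroup G} (hU : IsPGroup p U)
    (hne : U ≠ ⊥) : U ⊓ centralizer (U : Set G) ≠ ⊥ := by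
  haveI : Nontrivial U := by
    obtain ⟨y, hy, hy1⟩ := (Subgroup.bot_or_exists_ne_one U).resolve_left hne
    exact ⟨⟨⟨y, hy⟩, 1, fun h => hy1 (congrArg Subtype.val h)⟩⟩
  haveI := hU.center_nontrivial
  obtain ⟨z, hz⟩ := exists_ne (1 : Subgroup.center U)
  intro h
  have h3 : z.1.1 ∈ U ⊓ centralizer (U : Set G) := by
    refine mem_inf.mpr ⟨z.1.2, ?_⟩
    rw [Subgroup.mem_centralizer_iff]
    intro j hj
    have := Subgroup.mem_center_iff.mp z.2 ⟨j, hj⟩
    exact congrArg Subtype.val this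
  rw [h, Subgroup.mem_bot] at h3
  apply hz
  apply Subtype.ext
  apply Subtype.ext
  exact h3

theorem thompson_ne_bot {G : Type u} [Group G] [Finite G] {U : Subgroup G} (hU : IsPGroup p U)
    (hne : U ≠ ⊥) : thompsonSubgroupOf p U ≠ ⊥ := by
  intro h
  apply F_ne_bot_elem hU hne
  rw [centerThompsonOf, h, bot_inf_eq]

/-- The family attached to Thompson's theorem. -/
def thFam (p : ℕ) [hpf : Fact p.Prime] : LocFam.{u} p where
  L := fun G _ U => {normalizer (thompsonSubgroupOf p U : Set G), centralizer ((U ⊓ centralizer (U : Set G) : Subgroup G) : Set G)}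
  le := by
    intro G _ _ U X hX
    rcases hX with rfl | hX
    · exact Subgroup.le_normalizer.trans (CfsgLib.PLocal.normalizer_le_normalizer_thompsonOf U)
    · rw [Set.mem_singleton_iff.mp hX]
      intro u hu
      rw [Subgroup.mem_centralizer_iff]
      intro z hz
      exact (Subgroup.mem_centralizer_iff.mp (mem_inf.mp hz).2 u hu).symm
  sub := by
    intro G _ _ K U hU X hX
    have hinj : ∀ x ∈ U, ∀ y ∈ U, K.subtype x = K.subtype y → x = y := fun x _ y _ h => Subtype.ext h
    rcases hX with rfl | hX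
    · refine ⟨_, Or.inl rfl, ?_⟩
      rw [CfsgLib.PLocal.thompsonOf_map K.subtype hinj]
      rintro _ ⟨x, hx, rfl⟩
      apply CfsgLib.PLocal.mem_normalizer_of_conj_le
      rintro _ ⟨z, hz, rfl⟩
      have h1 := (Subgroup.mem_normalizer_iff.mp hx z).mp hz
      exact ⟨_, h1, rfl⟩
    · rw [Set.mem_singleton_iff.mp hX]
      refine ⟨_, Or.inr rfl, ?_⟩
      rw [← center_map_inj K.subtype (le_refl U) hinj]
      rintro _ ⟨x, hx, rfl⟩
      rw [Subgroup.mem_centralizer_iff]
      rintro _ ⟨z, hz, rfl⟩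
      have := Subgroup.mem_centralizer_iff.mp hx z hz
      exact congrArg Subtype.val this
  quot := by
    intro G H _ _ _ _ f hf hker U hU X hX
    have hinj : ∀ x ∈ U, ∀ y ∈ U, f x = f y → x = y := by
      intro x hx y hy h
      have h1 : x⁻¹ * y ∈ U ⊓ f.ker := by
        refine mem_inf.mpr ⟨mul_mem (inv_mem hx) hy, ?_⟩
        rw [MonoidHom.mem_ker, map_mul, map_inv, h, inv_mul_cancel]
      rw [CfsgLib.PLocal.inf_eq_bot_of_p_coprime hU hker, Subgroup.mem_bot] at h1
      exact inv_mul_eq_one.mp h1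
    rcases hX with rfl | hX
    · refine ⟨_, Or.inl rfl, ?_⟩
      rw [CfsgLib.PLocal.thompsonOf_map f hinj]
      intro xb hxb
      obtain ⟨g, rfl⟩ := hf xb
      obtain ⟨o, ho, hn⟩ := CfsgLib.PLocal.exists_normalizing_lift (O := f.ker) (Q := thompsonSubgroupOf p U) (g := g) hker
        (hU.to_le (CfsgLib.PLocal.thompsonOf_le U)) (by
          intro t ht
          have h1 : f (g * t * g⁻¹) ∈ (thompsonSubgroupOf p U).map f := by
            rw [map_mul, map_mul, map_inv]
            exact (Subgroup.mem_normalizer_iff.mp hxb _).mp ⟨t, ht, rfl⟩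
          obtain ⟨y, hy, hye⟩ := h1
          have e : g * t * g⁻¹ = y * (y⁻¹ * (g * t * g⁻¹)) := by group
          rw [e, sup_comm]
          refine mul_mem (mem_sup_left hy) (mem_sup_right ?_)
          rw [MonoidHom.mem_ker, map_mul, map_inv, hye, inv_mul_cancel])
      refine ⟨o⁻¹ * g, hn, ?_⟩
      have ho1 : f o = 1 := ho
      rw [map_mul, map_inv, ho1, inv_one, one_mul]
    · rw [Set.mem_singleton_iff.mp hX]
      refine ⟨_, Or.inr rfl, ?_⟩
      rw [← center_map_inj f (le_refl U) hinj]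
      intro xb hxb
      obtain ⟨g, rfl⟩ := hf xb
      obtain ⟨o, ho, hn⟩ := CfsgLib.PLocal.exists_centralizing_lift (O := f.ker)
        (Q := U ⊓ centralizer (U : Set G)) (g := g) hker
        (hU.to_le inf_le_left) (by
          intro x hx
          have h1 := Subgroup.mem_centralizer_iff.mp hxb (f x) ⟨x, hx, rfl⟩
          rw [← map_mul, ← map_mul]
          rw [QuotientGroup.mk'_apply, QuotientGroup.mk'_apply, QuotientGroup.eq]
          rw [MonoidHom.mem_ker, map_mul, map_inv, map_mul, map_mul, ← h1]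
          group)
      refine ⟨o⁻¹ * g, hn, ?_⟩
      have ho1 : f o = 1 := ho
      rw [map_mul, map_inv, ho1, inv_one, one_mul]
  loc := by
    intro G _ _ T hT hT1 X hX
    rcases hX with rfl | hX
    · exact ⟨_, thompson_ne_bot hT hT1, hT.to_le (CfsgLib.PLocal.thompsonOf_le T), le_refl _,
        CfsgLib.PLocal.normalizer_le_normalizer_thompsonOf T⟩
    · rw [Set.mem_singleton_iff.mp hX]
      exact ⟨_, center_ne_bot_of_pgroup hT hT1, hT.to_le inf_le_left, Subgroup.centralizer_le_normalizer _,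
        normalizer_le_normalizer_center T⟩
  top := by
    intro G _ _ U hU hU1 hX
    rcases hX with hX | hX
    · exact ⟨_, thompson_ne_bot hU hU1, CfsgLib.PLocal.thompsonOf_le U,
        Subgroup.normalizer_eq_top_iff.mp hX.symm⟩
    · refine ⟨_, center_ne_bot_of_pgroup hU hU1, inf_le_left, ?_⟩
      have h1 : centralizer ((U ⊓ centralizer (U : Set G) : Subgroup G) : Set G) = ⊤ := (Set.mem_singleton_iff.mp hX).symm
      refine ⟨fun n hn g => ?_⟩
      have h2 : g ∈ centralizer ((U ⊓ centralizer (U : Set G) : Subgroup G) : Set G) := by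
        rw [h1]; exact mem_top g
      have h3 := Subgroup.mem_centralizer_iff.mp h2 n hn
      rw [← h3, mul_inv_cancel_right]
      exact hn

/-- `G = R P` when `G/R` is a `p`-group. -/
theorem cover_of_pquot {G : Type u} [Group G] [Finite G] (P : Sylow p G) (R : Subgroup G) [hRn : R.Normal]
    (hGR : ∀ g : G, ∃ k : ℕ, g ^ (p ^ k) ∈ R) (g : G) : ∃ r ∈ R, ∃ s ∈ (P : Subgroup G), g = r * s := by
  let f := QuotientGroup.mk' R
  have hf : Function.Surjective f := QuotientGroup.mk'_surjective R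
  have hqp : IsPGroup p (G ⧸ R) := by
    intro q
    obtain ⟨g₀, rfl⟩ := hf q
    obtain ⟨j, hj⟩ := hGR g₀
    refine ⟨j, ?_⟩
    rw [← map_pow, ← MonoidHom.mem_ker, QuotientGroup.ker_mk']
    exact hj
  have htop := CfsgLib.PLocal.sylow_eq_top_of_isPGroup hqp (P.mapSurjective hf)
  have hg : f g ∈ ((P.mapSurjective hf : Sylow p _) : Subgroup _) := by rw [htop]; exact mem_top _
  obtain ⟨s, hs, hsg⟩ := hg
  refine ⟨g * s⁻¹, ?_, s, hs, by group⟩
  rw [← QuotientGroup.ker_mk' R, MonoidHom.mem_ker, map_mul, map_inv]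
  have : f s = f g := hsg
  rw [this, mul_inv_cancel]

/-- A complement for `H` in `R`, when `H` is a normal `p`-subgroup and `R/H` a `p'`-group. -/
theorem exists_pprime_complement {G : Type u} [Group G] [Finite G] (H R : Subgroup G) [hHn : H.Normal]
    (hHR : H ≤ R) (hHp : IsPGroup p H) (hRm : ∀ b ∈ R, ∃ m, 0 < m ∧ m.Coprime p ∧ b ^ m ∈ H) :
    ∃ K : Subgroup G, (Nat.card K).Coprime p ∧ K ≤ R ∧ ∀ r ∈ R, ∃ h ∈ H, ∃ k ∈ K, r = h * k := by
  classical
  set H' : Subgroup R := H.subgroupOf R with hH'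
  haveI hH'n : H'.Normal := Subgroup.Normal.subgroupOf hHn R
  have hH'p : IsPGroup p H' := hHp.comap_of_injective R.subtype R.subtype_injective
  have hind : (H'.index).Coprime p := by
    rw [Nat.coprime_comm, Nat.Prime.coprime_iff_not_dvd hpf.out]
    intro hd
    have hd' : p ∣ Nat.card (R ⧸ H') := hd
    obtain ⟨x, hx⟩ := exists_prime_orderOf_dvd_card' p hd'
    obtain ⟨b, rfl⟩ := QuotientGroup.mk'_surjective H' x
    obtain ⟨m, hm0, hmc, hm⟩ := hRm b.1 b.2
    have h1 : (QuotientGroup.mk' H' b) ^ m = 1 := by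
      rw [← map_pow, ← MonoidHom.mem_ker, QuotientGroup.ker_mk']
      exact hm
    have h2 := orderOf_dvd_of_pow_eq_one h1
    rw [hx] at h2
    exact (Nat.Prime.coprime_iff_not_dvd hpf.out).mp hmc.symm h2
  have hcop : Nat.Coprime (Nat.card H') H'.index := by
    obtain ⟨k, hk⟩ := IsPGroup.iff_card.mp hH'p
    rw [hk]
    exact Nat.Coprime.pow_left k hind.symm
  obtain ⟨K, hK⟩ := Subgroup.exists_right_complement'_of_coprime hcop
  refine ⟨K.map R.subtype, ?_, Subgroup.map_subtype_le _, ?_⟩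
  · have h1 : Nat.card (K.map R.subtype) = Nat.card K :=
      Nat.card_congr (Subgroup.equivMapOfInjective K R.subtype R.subtype_injective).symm.toEquiv
    rw [h1, ← Subgroup.IsComplement'.index_eq_card hK.symm]
    exact hind
  · intro r hr
    obtain ⟨⟨a, b⟩, hab⟩ := hK.2 ⟨r, hr⟩
    refine ⟨a.1.1, a.2, b.1.1, ⟨b.1, b.2, rfl⟩, ?_⟩
    have := congrArg Subtype.val hab
    exact this.symm

/-- The final case of Thompson's theorem. -/
theorem thompson_final (hp : p ≠ 2) {G : Type u} [Group G] [Finite G] (P : Sylow p G) (H R : Subgroup G)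
    (hHn : H.Normal) (hRn : R.Normal) (hHR : H ≤ R) (hHp : IsPGroup p H)
    (hcomm : ∀ a ∈ R, ∀ b ∈ R, ⁅a, b⁆ ∈ H)
    (hRm : ∀ b ∈ R, ∃ m, 0 < m ∧ m.Coprime p ∧ b ^ m ∈ H) (hGR : ∀ g : G, ∃ k : ℕ, g ^ (p ^ k) ∈ R)
    (hc : centralizer (H : Set G) ≤ H) (hHcore : H = pCore p G)
    (hstar : ∀ D : Subgroup G, H ≤ D → D ≤ R → (∀ g ∈ (P : Subgroup G), ∀ d ∈ D, g * d * g⁻¹ ∈ D) → D = H ∨ D = R) :
    normalizer (thompsonSubgroupOf p (P : Subgroup G) : Set G) = ⊤ ∨
    centralizer (((P : Subgroup G) ⊓ centralizer ((P : Subgroup G) : Set G) : Subgroup G) : Set G) = ⊤ := by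
  classical
  haveI := hHn
  haveI := hRn
  have hHP : H ≤ (P : Subgroup G) := CfsgLib.PLocal.normal_le_sylow hHn hHp P
  have hcov := cover_of_pquot P R hGR
  set J := thompsonSubgroupOf p (P : Subgroup G) with hJ
  have hJP : J ≤ (P : Subgroup G) := CfsgLib.PLocal.thompsonOf_le _
  set E := centerThompsonOf p (P : Subgroup G) with hE
  have hEn : E.Normal := zj_elem hp P (by rw [← hHcore]; exact hc)
    (fun T _ hT => stable_of_class hp H R hHp hcomm hRm hGR T hT)
  set C₂ := centralizer (E : Set G) with hC₂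
  haveI hC₂n : C₂.Normal := Subgroup.normal_centralizer
  obtain ⟨Q, hQ⟩ := CfsgLib.PLocal.exists_sylow_inf_normal P hC₂n
  have hJC₂ : J ≤ C₂ := by
    intro j hj
    rw [hC₂, Subgroup.mem_centralizer_iff]
    intro z hz
    exact ((mem_centralizer_iff.mp (mem_inf.mp hz).2) j hj).symm
  have hJQ : thompsonSubgroupOf p ((P : Subgroup G) ⊓ C₂) = J :=
    CfsgLib.PLocal.thompsonOf_of_le inf_le_left (le_inf hJP hJC₂)
  set N := normalizer (J : Set G) with hN
  have hF : C₂ ⊔ normalizer (((P : Subgroup G) ⊓ C₂ : Subgroup G) : Set G) = ⊤ := by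
    have := Sylow.normalizer_sup_eq_top Q
    rw [hQ] at this
    rw [sup_comm]
    exact this
  have hfac : ∀ g : G, ∃ c ∈ C₂, ∃ n ∈ N, g = c * n := by
    intro g
    have hg : g ∈ C₂ ⊔ normalizer (((P : Subgroup G) ⊓ C₂ : Subgroup G) : Set G) := by
      rw [hF]; exact mem_top _
    obtain ⟨c, hc', n, hn, he⟩ := Subgroup.mem_sup_of_normal_left.mp hg
    refine ⟨c, hc', n, ?_, he.symm⟩
    have := CfsgLib.PLocal.normalizer_le_normalizer_thompsonOf (p := p) _ hn
    rwa [hJQ] at this
  have hPN : (P : Subgroup G) ≤ N :=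
    Subgroup.le_normalizer.trans (CfsgLib.PLocal.normalizer_le_normalizer_thompsonOf _)
  -- the central elements of order `p`
  let S₀ : Set G := {x | x ∈ (P : Subgroup G) ∧ x ∈ centralizer ((P : Subgroup G) : Set G) ∧ x ^ p = 1}
  have hS₀E : S₀ ⊆ E := by
    rintro x ⟨hx1, hx2, hx3⟩
    refine mem_inf.mpr ⟨?_, ?_⟩
    · change x ∈ J
      rw [hJ, CfsgLib.PLocal.thompsonOf_eq_sSup_maxIn]
      obtain ⟨A, hA⟩ := CfsgLib.PLocal.exists_maxIn (p := p) (P : Subgroup G)
      refine (le_sSup hA) ?_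
      exact maxIn_absorb hA hx1 hx3 (fun a ha => Subgroup.mem_centralizer_iff.mp hx2 a (hA.1 ha))
    · rw [Subgroup.mem_centralizer_iff]
      intro j hj
      exact ((Subgroup.mem_centralizer_iff.mp hx2) j (hJP hj))
  set C₁ := centralizer S₀ with hC₁
  have hC₂C₁ : C₂ ≤ C₁ := Subgroup.centralizer_le hS₀E
  have hPC₁ : (P : Subgroup G) ≤ C₁ := by
    intro s hs
    rw [hC₁, Subgroup.mem_centralizer_iff]
    rintro x ⟨hx1, hx2, hx3⟩
    exact (Subgroup.mem_centralizer_iff.mp hx2 s hs).symm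
  -- the dichotomy
  by_cases hNtop : N = ⊤
  · exact Or.inl hNtop
  right
  have hsplit : ∀ M : Subgroup G, (P : Subgroup G) ≤ M → M ≠ ⊤ → M ≤ (P : Subgroup G) := by
    intro M hPM hMtop
    have hs := hstar (M ⊓ R) (le_inf (hHP.trans hPM) hHR) inf_le_right (by
      intro g hg d hd
      exact mem_inf.mpr ⟨mul_mem (mul_mem (hPM hg) (mem_inf.mp hd).1) (inv_mem (hPM hg)),
        hRn.conj_mem _ (mem_inf.mp hd).2 g⟩)
    rcases hs with hs | hs
    · intro m hm
      obtain ⟨r, hr, s, hs', rfl⟩ := hcov m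
      have h1 : r ∈ M ⊓ R := by
        refine mem_inf.mpr ⟨?_, hr⟩
        have e : r = (r * s) * s⁻¹ := by group
        rw [e]
        exact mul_mem hm (inv_mem (hPM hs'))
      rw [hs] at h1
      exact mul_mem (hHP h1) hs'
    · exfalso
      apply hMtop
      rw [eq_top_iff]
      intro g _
      obtain ⟨r, hr, s, hs', rfl⟩ := hcov g
      have h1 : r ∈ M ⊓ R := by rw [hs]; exact hr
      exact mul_mem (mem_inf.mp h1).1 (hPM hs')
  have hNP := hsplit N hPN hNtop
  have hC₁top : C₁ = ⊤ := by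
    by_contra hne
    have hC₁P := hsplit C₁ hPC₁ hne
    apply hNtop
    rw [eq_top_iff]
    intro g _
    obtain ⟨c, hc', n, hn, rfl⟩ := hfac g
    exact hPN (mul_mem (hC₁P (hC₂C₁ hc')) (hNP hn))
  have hS₀cen : ∀ x ∈ S₀, ∀ g : G, g * x = x * g := by
    intro x hx g
    have : g ∈ C₁ := by rw [hC₁top]; exact mem_top g
    exact (Subgroup.mem_centralizer_iff.mp this x hx).symm
  -- the abelian core
  set W := H ⊓ centralizer (H : Set G) with hW
  haveI hWn : W.Normal := by
    rw [hW]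
    exact Subgroup.normal_inf_normal _ _
  haveI hWab : IsMulCommutative W := ⟨⟨fun a b => by
    apply Subtype.ext
    exact (Subgroup.mem_centralizer_iff.mp (mem_inf.mp a.2).2 b.1 (mem_inf.mp b.2).1).symm⟩⟩
  have hWp : IsPGroup p W := hHp.to_le inf_le_left
  obtain ⟨K, hKc, hKR, hKcov⟩ := exists_pprime_complement H R hHR hHp hRm
  have hKW : K ≤ normalizer (W : Set G) := by
    rw [Subgroup.normalizer_eq_top_iff.mpr hWn]
    exact le_top
  have hKcopW : (Nat.card K).Coprime (Nat.card W) := by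
    obtain ⟨k, hk⟩ := IsPGroup.iff_card.mp hWp
    rw [hk]
    exact Nat.Coprime.pow_right k hKc
  have hbot := CfsgLib.Solv.inf_centralizer_commutator_eq_bot K W hKW hKcopW
  have hDle : ⁅W, R⁆ ≤ ⁅W, K⁆ := by
    rw [Subgroup.commutator_le]
    intro w hw r hr
    obtain ⟨h, hh, k, hk, rfl⟩ := hKcov r hr
    have hwh : h * w = w * h := Subgroup.mem_centralizer_iff.mp (mem_inf.mp hw).2 h hh
    have hcW : ⁅w, k⁆ ∈ W := by
      rw [commutatorElement_def]
      have e : w * k * w⁻¹ * k⁻¹ = w * (k * w⁻¹ * k⁻¹) := by group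
      rw [e]
      exact mul_mem hw (hWn.conj_mem _ (inv_mem hw) k)
    have hch : h * ⁅w, k⁆ = ⁅w, k⁆ * h := Subgroup.mem_centralizer_iff.mp (mem_inf.mp hcW).2 h hh
    have e : ⁅w, h * k⁆ = ⁅w, k⁆ := by
      have e1 : ⁅w, h * k⁆ = (h * ⁅w, k⁆) * h⁻¹ := by
        simp only [commutatorElement_def]
        calc w * (h * k) * w⁻¹ * (h * k)⁻¹ = (w * h) * k * w⁻¹ * k⁻¹ * h⁻¹ := by group
          _ = (h * w) * k * w⁻¹ * k⁻¹ * h⁻¹ := by rw [hwh]
          _ = _ := by group
      rw [e1, hch, mul_inv_cancel_right]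
    rw [e]
    exact Subgroup.commutator_mem_commutator hw hk
  have hDnorm : (⁅W, R⁆).Normal := Subgroup.commutator_normal W R
  have hDW : ⁅W, R⁆ ≤ W := Subgroup.commutator_le_left W R
  have hDbot : ⁅W, R⁆ = ⊥ := by
    by_contra hne
    -- a central element of order `p`
    set D := ⁅W, R⁆ with hD
    have hDP : D ≤ (P : Subgroup G) := hDW.trans (inf_le_left.trans hHP)
    have hN0 : (D.subgroupOf (P : Subgroup G)) ≠ ⊥ := by
      intro h
      apply hne
      rw [eq_bot_iff]
      intro x hx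
      have h1 : (⟨x, hDP hx⟩ : (P : Subgroup G)) ∈ D.subgroupOf (P : Subgroup G) := hx
      rw [h, Subgroup.mem_bot] at h1
      rw [Subgroup.mem_bot]
      exact congrArg Subtype.val h1
    haveI : (D.subgroupOf (P : Subgroup G)).Normal := Subgroup.Normal.subgroupOf hDnorm _
    have h1 := normal_inf_center_ne_bot P.isPGroup' (D.subgroupOf (P : Subgroup G)) hN0
    set X := D.subgroupOf (P : Subgroup G) ⊓ center (P : Subgroup G) with hX
    have hXp : IsPGroup p X := IsPGroup.to_le (H := X) (K := ⊤) (by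
        intro y
        obtain ⟨k, hk⟩ := P.isPGroup' y.1
        exact ⟨k, Subtype.ext hk⟩) le_top
    have hdvd : p ∣ Nat.card X := by
      obtain ⟨k, hk⟩ := IsPGroup.iff_card.mp hXp
      rw [hk]
      have hk0 : k ≠ 0 := by
        rintro rfl
        rw [pow_zero] at hk
        exact h1 (Subgroup.card_eq_one.mp hk)
      exact dvd_pow_self p hk0
    obtain ⟨x, hx⟩ := exists_prime_orderOf_dvd_card' p hdvd
    have hxp : (x.1.1) ^ p = 1 := by
      have h2 := pow_orderOf_eq_one x
      rw [hx] at h2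
      exact congrArg (fun t : X => (t.1.1 : G)) h2
    have hx1 : x.1.1 ≠ 1 := by
      intro h
      have h2 : x = 1 := by
        apply Subtype.ext
        apply Subtype.ext
        exact h
      rw [h2, orderOf_one] at hx
      exact hpf.out.one_lt.ne hx
    have hxD : x.1.1 ∈ D := (mem_inf.mp x.2).1
    have hxS : x.1.1 ∈ S₀ := by
      refine ⟨x.1.2, ?_, hxp⟩
      rw [Subgroup.mem_centralizer_iff]
      intro s hs
      have := Subgroup.mem_center_iff.mp (mem_inf.mp x.2).2 ⟨s, hs⟩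
      exact congrArg Subtype.val this
    have h3 : x.1.1 ∈ (W ⊓ centralizer (K : Set G)) ⊓ ⁅W, K⁆ := by
      refine mem_inf.mpr ⟨mem_inf.mpr ⟨hDW hxD, ?_⟩, hDle hxD⟩
      rw [Subgroup.mem_centralizer_iff]
      intro k _
      exact hS₀cen _ hxS k
    rw [hbot, Subgroup.mem_bot] at h3
    exact hx1 h3
  -- conclusion
  have hZW : (P : Subgroup G) ⊓ centralizer ((P : Subgroup G) : Set G) ≤ W := by
    intro z hz
    have hzH : z ∈ H := by
      apply hc
      rw [Subgroup.mem_centralizer_iff]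
      intro h hh
      exact Subgroup.mem_centralizer_iff.mp (mem_inf.mp hz).2 h (hHP hh)
    refine mem_inf.mpr ⟨hzH, ?_⟩
    rw [Subgroup.mem_centralizer_iff]
    intro h hh
    exact Subgroup.mem_centralizer_iff.mp (mem_inf.mp hz).2 h (hHP hh)
  rw [eq_top_iff]
  intro g _
  rw [Subgroup.mem_centralizer_iff]
  intro z hz
  obtain ⟨r, hr, s, hs, rfl⟩ := hcov g
  have hzs : s * z = z * s := (Subgroup.mem_centralizer_iff.mp (mem_inf.mp hz).2 s hs).symm ▸ rfl
  have hzr : r * z = z * r := by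
    have h1 : ⁅z, r⁆ ∈ ⁅W, R⁆ := Subgroup.commutator_mem_commutator (hZW hz) hr
    rw [hDbot, Subgroup.mem_bot, commutatorElement_eq_one_iff_mul_comm] at h1
    exact h1.symm
  calc z * (r * s) = (z * r) * s := by group
    _ = (r * z) * s := by rw [hzr]
    _ = r * (z * s) := by group
    _ = r * (s * z) := by rw [hzs]
    _ = _ := by group

/-- The Thompson normal `p`-complement theorem, the hard direction. -/
theorem thompson_np (hp : p ≠ 2) {G : Type u} [Group G] [Finite G] (P : Sylow p G)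
    (h1 : HasNormalPComplement p (normalizer (thompsonSubgroupOf p (P : Subgroup G) : Set G)))
    (h2 : HasNormalPComplement p (centralizer (((P : Subgroup G) ⊓ centralizer ((P : Subgroup G) : Set G) : Subgroup G) : Set G))) :
    HasNormalPComplement p G := by
  refine np_of_loc (thFam p) ?_ _ G rfl P ?_
  · intro G _ _ P H R hHn hRn hHR hHp hcomm hRm hGR hc hHcore hstar
    rcases thompson_final hp P H R hHn hRn hHR hHp hcomm hRm hGR hc hHcore hstar with h | h
    · exact Or.inl h.symm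
    · exact Or.inr h.symm
  · intro X hX
    rcases hX with rfl | hX
    · exact h1
    · rw [Set.mem_singleton_iff.mp hX]
      exact h2

end

end CfsgLib.OOL
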