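import Cfsg.Agent.Lib.SS.Gaschutz
import Cfsg.Agent.Lib.OOL.PRank
import Cfsg.Agent.Lib.Trans.Basic
import Cfsg.Agent.Lib.Solv.Nilp
import Cfsg.Agent.Lib.Solv.Core

set_option autoImplicit false
set_option linter.unusedSectionVars false
set_option linter.style.haveILetI false
set_option linter.unusedVariables false

open Pointwise
open scoped commutatorElement IsMulCommutative
open Subgroup CfsgLib.Solv Cfsg

namespace CfsgLib.OOL

universe u v

section Tate

variable {G : Type u} [Group G] [Finite G] {T : Type v} [Group T] [Finite T] {p : ℕ} [hpf : Fact p.Prime]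

/-- Gaschütz lifting of a homomorphism onto a quotient of a Sylow subgroup. -/
theorem gaschutz_lift (hT : IsPGroup p T) (ι : T →* G) (hι : Function.Injective ι) (hidx : ¬ p ∣ ι.range.index)
    (K K₁ : Subgroup T) [hKn : K.Normal] [hK₁n : K₁.Normal] (hK₁K : K₁ ≤ K) (hcard : Nat.card K = p * Nat.card K₁)
    (φ : G →* T ⧸ K) (hφ : ∀ u, φ (ι u) = (u : T ⧸ K)) :
    ∃ φ' : G →* T ⧸ K₁, ∀ g, QuotientGroup.map K₁ K (MonoidHom.id T) (by simpa using hK₁K) (φ' g) = φ g := by
  classical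
  have hpp : p.Prime := hpf.out
  set Q₁ := T ⧸ K₁ with hQ₁
  set π : Q₁ →* T ⧸ K := QuotientGroup.map K₁ K (MonoidHom.id T) (by simpa using hK₁K) with hπ
  have hπmk : ∀ u : T, π (u : Q₁) = (u : T ⧸ K) := fun u => rfl
  have hπs : Function.Surjective π := by
    intro q
    obtain ⟨u, rfl⟩ := QuotientGroup.mk'_surjective K q
    exact ⟨(u : Q₁), rfl⟩
  have hQp : IsPGroup p Q₁ := hT.to_quotient K₁
  set W₀ : Subgroup Q₁ := π.ker with hW₀
  haveI hW₀n : W₀.Normal := MonoidHom.normal_ker π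
  -- order of `W₀`
  have hcW₀ : Nat.card W₀ = p := by
    have h1 : Nat.card Q₁ = Nat.card W₀ * Nat.card (T ⧸ K) := by
      rw [Subgroup.card_eq_card_quotient_mul_card_subgroup W₀, mul_comm]
      congr 1
      exact Nat.card_congr (QuotientGroup.quotientKerEquivOfSurjective π hπs).toEquiv
    have h2 := Subgroup.card_eq_card_quotient_mul_card_subgroup K₁
    have h3 := Subgroup.card_eq_card_quotient_mul_card_subgroup K
    have hpos : 0 < Nat.card (T ⧸ K) * Nat.card K₁ := Nat.mul_pos Nat.card_pos Nat.card_pos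
    apply Nat.eq_of_mul_eq_mul_right hpos
    calc Nat.card W₀ * (Nat.card (T ⧸ K) * Nat.card K₁) = Nat.card Q₁ * Nat.card K₁ := by rw [h1]; ring
      _ = Nat.card T := h2.symm
      _ = Nat.card (T ⧸ K) * (p * Nat.card K₁) := by rw [h3, hcard]
      _ = p * (Nat.card (T ⧸ K) * Nat.card K₁) := by ring
  have hW₀pow : ∀ x ∈ W₀, x ^ p = 1 := by
    intro x hx
    have h1 := Subgroup.orderOf_dvd_natCard W₀ hx
    rw [hcW₀] at h1
    exact orderOf_dvd_iff_pow_eq_one.mp h1
  have hW₀c : ∀ x ∈ W₀, ∀ y : Q₁, x * y = y * x := by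
    haveI hnil : Group.IsNilpotent Q₁ := hQp.isNilpotent
    have hne : W₀ ≠ ⊥ := by
      intro h
      rw [h, Subgroup.card_bot] at hcW₀
      exact hpp.one_lt.ne hcW₀
    have h1 := normal_inf_center_ne_bot W₀ hne
    have h2 : Nat.card (W₀ ⊓ center Q₁ : Subgroup Q₁) ∣ p := by
      rw [← hcW₀]
      exact Subgroup.card_dvd_of_le inf_le_left
    have h3 : Nat.card (W₀ ⊓ center Q₁ : Subgroup Q₁) = p := by
      rcases (Nat.dvd_prime hpp).mp h2 with h | h
      · exact absurd (Subgroup.card_eq_one.mp h) h1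
      · exact h
    have h4 : W₀ ⊓ center Q₁ = W₀ := Subgroup.eq_of_le_of_card_ge inf_le_left (by rw [h3, hcW₀])
    intro x hx y
    have h5 : x ∈ W₀ ⊓ center Q₁ := by rw [h4]; exact hx
    exact ((Subgroup.mem_center_iff.mp h5.2) y).symm
  -- the fibre product
  set Y : Subgroup (G × Q₁) := MonoidHom.eqLocus (φ.comp (MonoidHom.fst G Q₁)) (π.comp (MonoidHom.snd G Q₁)) with hY
  have hYmem : ∀ g x, (g, x) ∈ Y ↔ φ g = π x := fun g x => Iff.rfl
  set f : Y →* G := (MonoidHom.fst G Q₁).comp Y.subtype with hf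
  have hfs : Function.Surjective f := by
    intro g
    obtain ⟨x, hx⟩ := hπs (φ g)
    exact ⟨⟨(g, x), (hYmem g x).mpr hx.symm⟩, rfl⟩
  set W : Subgroup Y := f.ker with hW
  haveI hWn : W.Normal := MonoidHom.normal_ker f
  have hWmem : ∀ y : Y, y ∈ W ↔ y.1.1 = 1 := fun y => Iff.rfl
  have hWsnd : ∀ y ∈ W, y.1.2 ∈ W₀ := by
    intro y hy
    have h1 : φ y.1.1 = π y.1.2 := y.2
    rw [(hWmem y).mp hy, map_one] at h1
    exact MonoidHom.mem_ker.mpr h1.symm
  haveI hWc : IsMulCommutative W := by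
    refine ⟨⟨fun a b => ?_⟩⟩
    apply Subtype.ext
    apply Subtype.ext
    apply Prod.ext
    · show a.1.1.1 * b.1.1.1 = b.1.1.1 * a.1.1.1
      rw [(hWmem a.1).mp a.2, (hWmem b.1).mp b.2]
    · show a.1.1.2 * b.1.1.2 = b.1.1.2 * a.1.1.2
      exact hW₀c _ (hWsnd a.1 a.2) _
  set U : Subgroup Y := ι.range.comap f with hU
  have hWU : W ≤ U := by
    intro y hy
    show f y ∈ ι.range
    rw [MonoidHom.mem_ker.mp hy]
    exact one_mem _
  have hidxU : U.index = ι.range.index := Subgroup.index_comap_of_surjective _ hfs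
  have hcop : (Nat.card W).Coprime U.index := by
    have h1 : Nat.card W ∣ p := by
      rw [← hcW₀]
      let g : W →* W₀ := ((MonoidHom.snd G Q₁).comp (Y.subtype.comp W.subtype)).codRestrict W₀ (fun y => hWsnd y.1 y.2)
      have hg : Function.Injective g := by
        intro a b hab
        apply Subtype.ext
        apply Subtype.ext
        apply Prod.ext
        · rw [(hWmem a.1).mp a.2, (hWmem b.1).mp b.2]
        · exact congrArg Subtype.val hab
      exact Subgroup.card_dvd_of_injective g hg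
    rw [hidxU]
    apply Nat.Coprime.coprime_dvd_left h1
    exact (Nat.Prime.coprime_iff_not_dvd hpp).mpr hidx
  -- section over `T`
  let t : T →* Y := (MonoidHom.prod ι (QuotientGroup.mk' K₁)).codRestrict Y (by
    intro u
    show φ (ι u) = π ((u : Q₁))
    rw [hφ, hπmk])
  have htf : ∀ u, f (t u) = ι u := fun u => rfl
  have ht2 : ∀ u, (t u).1.2 = (u : Q₁) := fun u => rfl
  set A : Subgroup Y := t.range with hA
  have hAU : A ≤ U := by
    rintro _ ⟨u, rfl⟩
    show f (t u) ∈ ι.range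
    rw [htf]
    exact ⟨u, rfl⟩
  have hAW : A ⊓ W = ⊥ := by
    rw [eq_bot_iff]
    rintro y ⟨⟨u, rfl⟩, hy⟩
    have h1 : f (t u) = 1 := hy
    rw [htf] at h1
    have h2 : u = 1 := hι (by rw [h1, map_one])
    rw [h2, map_one]
    exact one_mem _
  have hWA : W ⊔ A = U := by
    apply le_antisymm (sup_le hWU hAU)
    intro y hy
    obtain ⟨u, hu⟩ : f y ∈ ι.range := hy
    have h1 : y * (t u)⁻¹ ∈ W := by
      apply MonoidHom.mem_ker.mpr
      rw [map_mul, map_inv, htf, hu, mul_inv_cancel]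
    have h2 : y = (y * (t u)⁻¹) * t u := by group
    rw [h2]
    exact Subgroup.mul_mem _ (Subgroup.mem_sup_left h1) (Subgroup.mem_sup_right ⟨u, rfl⟩)
  obtain ⟨H, hH⟩ := CfsgLib.SS.gaschutz_exists W U hWU hcop A hAU hAW hWA
  -- the complement gives a homomorphism
  have hHW : W ⊓ H = ⊥ := hH.disjoint.eq_bot
  let e : H →* G := f.comp H.subtype
  have hei : Function.Injective e := by
    rw [injective_iff_map_eq_one]
    intro a ha
    have h1 : (a : Y) ∈ W ⊓ H := ⟨ha, a.2⟩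
    rw [hHW] at h1
    exact Subtype.ext (by simpa using h1)
  have hes : Function.Surjective e := by
    intro g
    obtain ⟨y, rfl⟩ := hfs g
    obtain ⟨⟨w, h⟩, hwh, -⟩ := hH.existsUnique y
    have hwh' : (w : Y) * h = y := hwh
    refine ⟨h, ?_⟩
    show f h = f y
    rw [← hwh', map_mul, MonoidHom.mem_ker.mp w.2, one_mul]
  let E : H ≃* G := MulEquiv.ofBijective e ⟨hei, hes⟩
  have hE : ∀ g, f (E.symm g : Y) = g := fun g => E.apply_symm_apply g
  let φ' : G →* Q₁ := (MonoidHom.snd G Q₁).comp (Y.subtype.comp (H.subtype.comp E.symm.toMonoidHom))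
  have hφ'a : ∀ g, φ' g = (E.symm g : Y).1.2 := fun g => rfl
  have hπφ' : ∀ g, π (φ' g) = φ g := by
    intro g
    have h1 : φ (E.symm g : Y).1.1 = π (E.symm g : Y).1.2 := (E.symm g : Y).2
    have h2 : (E.symm g : Y).1.1 = g := hE g
    rw [h2] at h1
    exact h1.symm
  exact ⟨φ', hπφ'⟩

/-- One step of the lifting in Tate's theorem. -/
theorem tate_lift_step (hT : IsPGroup p T) (ι : T →* G) (hι : Function.Injective ι) (hidx : ¬ p ∣ ι.range.index)
    (φ₀ : G →* T ⧸ frattini T) (hφ₀ : ∀ u, φ₀ (ι u) = (u : T ⧸ frattini T))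
    (K K₁ : Subgroup T) [hKn : K.Normal] [hK₁n : K₁.Normal] (hK₁K : K₁ ≤ K) (hcard : Nat.card K = p * Nat.card K₁)
    (φ : G →* T ⧸ K) (hφ : ∀ u, φ (ι u) = (u : T ⧸ K)) :
    ∃ φ₁ : G →* T ⧸ K₁, ∀ u, φ₁ (ι u) = (u : T ⧸ K₁) := by
  classical
  have hpp : p.Prime := hpf.out
  set Q₁ := T ⧸ K₁ with hQ₁
  set π : Q₁ →* T ⧸ K := QuotientGroup.map K₁ K (MonoidHom.id T) (by simpa using hK₁K) with hπ
  have hπmk : ∀ u : T, π (u : Q₁) = (u : T ⧸ K) := fun u => rfl
  have hπs : Function.Surjective π := by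
    intro q
    obtain ⟨u, rfl⟩ := QuotientGroup.mk'_surjective K q
    exact ⟨(u : Q₁), rfl⟩
  have hQp : IsPGroup p Q₁ := hT.to_quotient K₁
  set W₀ : Subgroup Q₁ := π.ker with hW₀
  haveI hW₀n : W₀.Normal := MonoidHom.normal_ker π
  -- order of `W₀`
  have hcW₀ : Nat.card W₀ = p := by
    have h1 : Nat.card Q₁ = Nat.card W₀ * Nat.card (T ⧸ K) := by
      rw [Subgroup.card_eq_card_quotient_mul_card_subgroup W₀, mul_comm]
      congr 1
      exact Nat.card_congr (QuotientGroup.quotientKerEquivOfSurjective π hπs).toEquiv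
    have h2 := Subgroup.card_eq_card_quotient_mul_card_subgroup K₁
    have h3 := Subgroup.card_eq_card_quotient_mul_card_subgroup K
    have hpos : 0 < Nat.card (T ⧸ K) * Nat.card K₁ := Nat.mul_pos Nat.card_pos Nat.card_pos
    apply Nat.eq_of_mul_eq_mul_right hpos
    calc Nat.card W₀ * (Nat.card (T ⧸ K) * Nat.card K₁) = Nat.card Q₁ * Nat.card K₁ := by rw [h1]; ring
      _ = Nat.card T := h2.symm
      _ = Nat.card (T ⧸ K) * (p * Nat.card K₁) := by rw [h3, hcard]
      _ = p * (Nat.card (T ⧸ K) * Nat.card K₁) := by ring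
  have hW₀pow : ∀ x ∈ W₀, x ^ p = 1 := by
    intro x hx
    have h1 := Subgroup.orderOf_dvd_natCard W₀ hx
    rw [hcW₀] at h1
    exact orderOf_dvd_iff_pow_eq_one.mp h1
  have hW₀c : ∀ x ∈ W₀, ∀ y : Q₁, x * y = y * x := by
    haveI hnil : Group.IsNilpotent Q₁ := hQp.isNilpotent
    have hne : W₀ ≠ ⊥ := by
      intro h
      rw [h, Subgroup.card_bot] at hcW₀
      exact hpp.one_lt.ne hcW₀
    have h1 := normal_inf_center_ne_bot W₀ hne
    have h2 : Nat.card (W₀ ⊓ center Q₁ : Subgroup Q₁) ∣ p := by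
      rw [← hcW₀]
      exact Subgroup.card_dvd_of_le inf_le_left
    have h3 : Nat.card (W₀ ⊓ center Q₁ : Subgroup Q₁) = p := by
      rcases (Nat.dvd_prime hpp).mp h2 with h | h
      · exact absurd (Subgroup.card_eq_one.mp h) h1
      · exact h
    have h4 : W₀ ⊓ center Q₁ = W₀ := Subgroup.eq_of_le_of_card_ge inf_le_left (by rw [h3, hcW₀])
    intro x hx y
    have h5 : x ∈ W₀ ⊓ center Q₁ := by rw [h4]; exact hx
    exact ((Subgroup.mem_center_iff.mp h5.2) y).symm
  -- the fibre product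
  set Y : Subgroup (G × Q₁) := MonoidHom.eqLocus (φ.comp (MonoidHom.fst G Q₁)) (π.comp (MonoidHom.snd G Q₁)) with hY
  have hYmem : ∀ g x, (g, x) ∈ Y ↔ φ g = π x := fun g x => Iff.rfl
  set f : Y →* G := (MonoidHom.fst G Q₁).comp Y.subtype with hf
  have hfs : Function.Surjective f := by
    intro g
    obtain ⟨x, hx⟩ := hπs (φ g)
    exact ⟨⟨(g, x), (hYmem g x).mpr hx.symm⟩, rfl⟩
  set W : Subgroup Y := f.ker with hW
  haveI hWn : W.Normal := MonoidHom.normal_ker f
  have hWmem : ∀ y : Y, y ∈ W ↔ y.1.1 = 1 := fun y => Iff.rfl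
  have hWsnd : ∀ y ∈ W, y.1.2 ∈ W₀ := by
    intro y hy
    have h1 : φ y.1.1 = π y.1.2 := y.2
    rw [(hWmem y).mp hy, map_one] at h1
    exact MonoidHom.mem_ker.mpr h1.symm
  haveI hWc : IsMulCommutative W := by
    refine ⟨⟨fun a b => ?_⟩⟩
    apply Subtype.ext
    apply Subtype.ext
    apply Prod.ext
    · show a.1.1.1 * b.1.1.1 = b.1.1.1 * a.1.1.1
      rw [(hWmem a.1).mp a.2, (hWmem b.1).mp b.2]
    · show a.1.1.2 * b.1.1.2 = b.1.1.2 * a.1.1.2
      exact hW₀c _ (hWsnd a.1 a.2) _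
  set U : Subgroup Y := ι.range.comap f with hU
  have hWU : W ≤ U := by
    intro y hy
    show f y ∈ ι.range
    rw [MonoidHom.mem_ker.mp hy]
    exact one_mem _
  have hidxU : U.index = ι.range.index := Subgroup.index_comap_of_surjective _ hfs
  have hcop : (Nat.card W).Coprime U.index := by
    have h1 : Nat.card W ∣ p := by
      rw [← hcW₀]
      let g : W →* W₀ := ((MonoidHom.snd G Q₁).comp (Y.subtype.comp W.subtype)).codRestrict W₀ (fun y => hWsnd y.1 y.2)
      have hg : Function.Injective g := by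
        intro a b hab
        apply Subtype.ext
        apply Subtype.ext
        apply Prod.ext
        · rw [(hWmem a.1).mp a.2, (hWmem b.1).mp b.2]
        · exact congrArg Subtype.val hab
      exact Subgroup.card_dvd_of_injective g hg
    rw [hidxU]
    apply Nat.Coprime.coprime_dvd_left h1
    exact (Nat.Prime.coprime_iff_not_dvd hpp).mpr hidx
  -- section over `T`
  let t : T →* Y := (MonoidHom.prod ι (QuotientGroup.mk' K₁)).codRestrict Y (by
    intro u
    show φ (ι u) = π ((u : Q₁))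
    rw [hφ, hπmk])
  have htf : ∀ u, f (t u) = ι u := fun u => rfl
  have ht2 : ∀ u, (t u).1.2 = (u : Q₁) := fun u => rfl
  set A : Subgroup Y := t.range with hA
  have hAU : A ≤ U := by
    rintro _ ⟨u, rfl⟩
    show f (t u) ∈ ι.range
    rw [htf]
    exact ⟨u, rfl⟩
  have hAW : A ⊓ W = ⊥ := by
    rw [eq_bot_iff]
    rintro y ⟨⟨u, rfl⟩, hy⟩
    have h1 : f (t u) = 1 := hy
    rw [htf] at h1
    have h2 : u = 1 := hι (by rw [h1, map_one])
    rw [h2, map_one]
    exact one_mem _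
  have hWA : W ⊔ A = U := by
    apply le_antisymm (sup_le hWU hAU)
    intro y hy
    obtain ⟨u, hu⟩ : f y ∈ ι.range := hy
    have h1 : y * (t u)⁻¹ ∈ W := by
      apply MonoidHom.mem_ker.mpr
      rw [map_mul, map_inv, htf, hu, mul_inv_cancel]
    have h2 : y = (y * (t u)⁻¹) * t u := by group
    rw [h2]
    exact Subgroup.mul_mem _ (Subgroup.mem_sup_left h1) (Subgroup.mem_sup_right ⟨u, rfl⟩)
  obtain ⟨H, hH⟩ := CfsgLib.SS.gaschutz_exists W U hWU hcop A hAU hAW hWA
  -- the complement gives a homomorphism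
  have hHW : W ⊓ H = ⊥ := hH.disjoint.eq_bot
  let e : H →* G := f.comp H.subtype
  have hei : Function.Injective e := by
    rw [injective_iff_map_eq_one]
    intro a ha
    have h1 : (a : Y) ∈ W ⊓ H := ⟨ha, a.2⟩
    rw [hHW] at h1
    exact Subtype.ext (by simpa using h1)
  have hes : Function.Surjective e := by
    intro g
    obtain ⟨y, rfl⟩ := hfs g
    obtain ⟨⟨w, h⟩, hwh, -⟩ := hH.existsUnique y
    have hwh' : (w : Y) * h = y := hwh
    refine ⟨h, ?_⟩
    show f h = f y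
    rw [← hwh', map_mul, MonoidHom.mem_ker.mp w.2, one_mul]
  let E : H ≃* G := MulEquiv.ofBijective e ⟨hei, hes⟩
  have hE : ∀ g, f (E.symm g : Y) = g := fun g => E.apply_symm_apply g
  let φ' : G →* Q₁ := (MonoidHom.snd G Q₁).comp (Y.subtype.comp (H.subtype.comp E.symm.toMonoidHom))
  have hφ'a : ∀ g, φ' g = (E.symm g : Y).1.2 := fun g => rfl
  have hπφ' : ∀ g, π (φ' g) = φ g := by
    intro g
    have h1 : φ (E.symm g : Y).1.1 = π (E.symm g : Y).1.2 := (E.symm g : Y).2
    have h2 : (E.symm g : Y).1.1 = g := hE g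
    rw [h2] at h1
    exact h1.symm
  -- the defect
  have haW : ∀ u : T, φ' (ι u) * (u : Q₁)⁻¹ ∈ W₀ := by
    intro u
    apply MonoidHom.mem_ker.mpr
    rw [map_mul, map_inv, hπφ', hφ, hπmk, mul_inv_cancel]
  let α : T →* Q₁ := MonoidHom.mk' (fun u => φ' (ι u) * (u : Q₁)⁻¹) (by
    intro a b
    have h1 := hW₀c _ (haW b) (a : Q₁)⁻¹
    rw [map_mul, map_mul]
    show φ' (ι a) * φ' (ι b) * (((a * b : T) : Q₁))⁻¹ = _
    have h2 : ((a * b : T) : Q₁) = (a : Q₁) * (b : Q₁) := rfl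
    rw [h2, mul_inv_rev]
    calc φ' (ι a) * φ' (ι b) * ((b : Q₁)⁻¹ * (a : Q₁)⁻¹)
        = φ' (ι a) * ((φ' (ι b) * (b : Q₁)⁻¹) * (a : Q₁)⁻¹) := by group
      _ = φ' (ι a) * ((a : Q₁)⁻¹ * (φ' (ι b) * (b : Q₁)⁻¹)) := by rw [h1]
      _ = _ := by group)
  have hαa : ∀ u, α u = φ' (ι u) * (u : Q₁)⁻¹ := fun u => rfl
  have hαc : ∀ u y, α u * y = y * α u := fun u y => hW₀c _ (haW u) y
  have hαp : ∀ u, (α u) ^ p = 1 := fun u => hW₀pow _ (haW u)
  have hαΦ : frattini T ≤ α.ker := by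
    apply CfsgLib.Solv.frattini_le_of_commutator_pow hT
    · rw [commutator_def, Subgroup.commutator_le]
      intro a _ b _
      rw [MonoidHom.mem_ker, map_commutatorElement, commutatorElement_eq_one_iff_mul_comm]
      exact hαc a (α b)
    · intro x
      rw [MonoidHom.mem_ker, map_pow]
      exact hαp x
  let αb : T ⧸ frattini T →* Q₁ := QuotientGroup.lift (frattini T) α (fun x hx => MonoidHom.mem_ker.mp (hαΦ hx))
  have hαb : ∀ u : T, αb (u : T ⧸ frattini T) = α u := fun u => rfl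
  let β : G →* Q₁ := αb.comp φ₀
  have hβc : ∀ g y, β g * y = y * β g := by
    intro g y
    obtain ⟨u, hu⟩ := QuotientGroup.mk'_surjective (frattini T) (φ₀ g)
    have h1 : β g = α u := by
      show αb (φ₀ g) = α u
      rw [← hu]
      rfl
    rw [h1]
    exact hαc u y
  have hβι : ∀ u, β (ι u) = α u := by
    intro u
    show αb (φ₀ (ι u)) = α u
    rw [hφ₀, hαb]
  refine ⟨MonoidHom.mk' (fun g => φ' g * (β g)⁻¹) ?_, ?_⟩
  · intro a b
    rw [map_mul, map_mul, mul_inv_rev]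
    have hinv : ∀ g y, (β g)⁻¹ * y = y * (β g)⁻¹ := by
      intro g y
      calc (β g)⁻¹ * y = (β g)⁻¹ * (y * β g) * (β g)⁻¹ := by group
        _ = (β g)⁻¹ * (β g * y) * (β g)⁻¹ := by rw [hβc g y]
        _ = y * (β g)⁻¹ := by group
    calc φ' a * φ' b * ((β b)⁻¹ * (β a)⁻¹) = φ' a * ((φ' b * (β b)⁻¹) * (β a)⁻¹) := by group
      _ = φ' a * ((β a)⁻¹ * (φ' b * (β b)⁻¹)) := by rw [hinv a (φ' b * (β b)⁻¹)]
      _ = _ := by group
  · intro u
    show φ' (ι u) * (β (ι u))⁻¹ = _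
    rw [hβι]
    have h1 : φ' (ι u) = α u * (u : Q₁) := by rw [hαa]; group
    rw [h1, hαc u (u : Q₁), mul_inv_cancel_right]

/-- Tate's retraction. -/
theorem tate_retract (hT : IsPGroup p T) (ι : T →* G) (hι : Function.Injective ι) (hidx : ¬ p ∣ ι.range.index)
    (φ₀ : G →* T ⧸ frattini T) (hφ₀ : ∀ u, φ₀ (ι u) = (u : T ⧸ frattini T)) :
    ∃ φ : G →* T, ∀ u, φ (ι u) = u := by
  classical
  have hpp : p.Prime := hpf.out
  have key : ∀ (n : ℕ) (K : Subgroup T) [K.Normal], Nat.card K = n → (∃ φ : G →* T ⧸ K, ∀ u, φ (ι u) = (u : T ⧸ K)) →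
      ∃ φ : G →* T, ∀ u, φ (ι u) = u := by
    intro n
    induction n using Nat.strong_induction_on with
    | _ n ih =>
      intro K hKn hn hφK
      by_cases hbot : K = ⊥
      · subst hbot
        obtain ⟨φ, hφ⟩ := hφK
        let r : T ⧸ (⊥ : Subgroup T) →* T := QuotientGroup.lift ⊥ (MonoidHom.id T) (by
          intro x hx
          simpa using hx)
        refine ⟨r.comp φ, ?_⟩
        intro u
        show r (φ (ι u)) = u
        rw [hφ]
        rfl
      · obtain ⟨a, ha⟩ := IsPGroup.iff_card.mp (hT.to_subgroup K)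
        have ha0 : a ≠ 0 := by
          rintro rfl
          exact hbot (Subgroup.card_eq_one.mp (by simpa using ha))
        obtain ⟨b, rfl⟩ : ∃ b, a = b + 1 := ⟨a - 1, by omega⟩
        obtain ⟨K₁, hK₁K, hK₁n, hK₁c⟩ := exists_normal_card_pow (p := p) hT (Nat.card K) K rfl hKn b (by
          rw [ha, pow_succ]
          exact Nat.le_mul_of_pos_right _ hpp.pos)
        obtain ⟨φ, hφ⟩ := hφK
        obtain ⟨φ₁, hφ₁⟩ := tate_lift_step hT ι hι hidx φ₀ hφ₀ K K₁ hK₁K (by rw [ha, hK₁c, pow_succ, mul_comm]) φ hφ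
        refine ih (p ^ b) ?_ K₁ hK₁c ⟨φ₁, hφ₁⟩
        rw [← hn, ha, pow_succ]
        have := hpp.one_lt
        have h2 : 0 < p ^ b := pow_pos hpp.pos b
        nlinarith
  exact key _ (frattini T) rfl ⟨φ₀, hφ₀⟩

end Tate

/-- **S0081** core. -/
theorem tate_normal {G : Type u} [Group G] [Finite G] {p : ℕ} [hpf : Fact p.Prime] (P : Sylow p G) (N : Subgroup G) [hNn : N.Normal]
    (h : N ⊓ (P : Subgroup G) ≤ (frattini P).map (P : Subgroup G).subtype) : HasNormalPComplement p N := by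
  classical
  have hpp : p.Prime := hpf.out
  set T : Subgroup G := (P : Subgroup G) with hT
  set G₁ : Subgroup G := T ⊔ N with hG₁
  have hTG₁ : T ≤ G₁ := le_sup_left
  have hNG₁ : N ≤ G₁ := le_sup_right
  let ι : T →* G₁ := Subgroup.inclusion hTG₁
  have hι : Function.Injective ι := Subgroup.inclusion_injective hTG₁
  have hιr : ι.range = T.subgroupOf G₁ := by
    ext x
    constructor
    · rintro ⟨u, rfl⟩
      exact u.2
    · intro hx
      exact ⟨⟨x, hx⟩, rfl⟩
  have hidx : ¬ p ∣ ι.range.index := by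
    rw [hιr]
    intro hd
    have h1 : (T.subgroupOf G₁).index ∣ T.index := by
      have h2 := Subgroup.relIndex_mul_index hTG₁
      exact ⟨G₁.index, h2.symm⟩
    have h3 : ¬ p ∣ T.index := P.not_dvd_index
    exact h3 (hd.trans h1)
  let e := QuotientGroup.quotientInfEquivProdNormalQuotient T N
  let L : T ⧸ N.subgroupOf T →* T ⧸ frattini T := QuotientGroup.lift (N.subgroupOf T) (QuotientGroup.mk' (frattini T)) (by
    intro x hx
    have h1 : (x : G) ∈ N ⊓ T := ⟨hx, x.2⟩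
    obtain ⟨y, hy, hyx⟩ := h h1
    have : y = x := Subtype.ext hyx
    rw [← this]
    exact (QuotientGroup.eq_one_iff y).mpr hy)
  let φ₀ : G₁ →* T ⧸ frattini T := L.comp (e.symm.toMonoidHom.comp (QuotientGroup.mk' (N.subgroupOf G₁)))
  have hφ₀ : ∀ u : T, φ₀ (ι u) = (u : T ⧸ frattini T) := by
    intro u
    have h1 : e (u : T ⧸ N.subgroupOf T) = ((ι u : G₁) : G₁ ⧸ N.subgroupOf G₁) := rfl
    show L (e.symm ((ι u : G₁) : G₁ ⧸ N.subgroupOf G₁)) = _
    rw [← h1, MulEquiv.symm_apply_apply]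
    rfl
  obtain ⟨φ, hφ⟩ := tate_retract (p := p) P.isPGroup' ι hι hidx φ₀ hφ₀
  have hφs : Function.Surjective φ := fun u => ⟨ι u, hφ u⟩
  -- the kernel is a `p'`-group
  have hcM : (Nat.card φ.ker).Coprime p := by
    have h1 : φ.ker.index = Nat.card T := by
      rw [Subgroup.index_ker, MonoidHom.range_eq_top.mpr hφs, Subgroup.card_top]
    have h2 := Subgroup.card_mul_index φ.ker
    have h3 := Subgroup.card_mul_index ι.range
    have h4 : Nat.card ι.range = Nat.card T := Nat.card_congr (MonoidHom.ofInjective hι).toEquiv.symm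
    rw [h1] at h2
    rw [h4, ← h2] at h3
    have hpos : 0 < Nat.card T := Nat.card_pos
    have h5 : ι.range.index = Nat.card φ.ker := by
      apply Nat.eq_of_mul_eq_mul_left hpos
      rw [h3]; ring
    rw [← h5]
    exact ((Nat.Prime.coprime_iff_not_dvd hpp).mpr hidx).symm
  let ψ : N →* T := φ.comp (Subgroup.inclusion hNG₁)
  refine CfsgLib.Trans.hasNormalPComplement_iff.mpr ⟨ψ.ker, MonoidHom.normal_ker ψ, ?_, ?_⟩
  · have h1 : Nat.card ψ.ker ∣ Nat.card φ.ker := by
      let g : ψ.ker →* φ.ker := ((Subgroup.inclusion hNG₁).comp ψ.ker.subtype).codRestrict φ.ker (fun y => y.2)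
      have hg : Function.Injective g := by
        intro a b hab
        apply Subtype.ext
        apply Subtype.ext
        have := congrArg (fun z : φ.ker => ((z : G₁) : G)) hab
        exact this
      exact Subgroup.card_dvd_of_injective g hg
    exact Nat.Coprime.coprime_dvd_left h1 hcM
  · have h1 : ψ.ker.index ∣ Nat.card T := by
      rw [Subgroup.index_ker]
      exact Subgroup.card_subgroup_dvd_card _
    obtain ⟨k, hk⟩ := IsPGroup.iff_card.mp P.isPGroup'
    rw [show Nat.card T = p ^ k from hk] at h1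
    obtain ⟨j, -, hj⟩ := (Nat.dvd_prime_pow hpp).mp h1
    exact ⟨j, hj⟩

end CfsgLib.OOL
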